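import Cfsg.Agent.Lib.Known.BalancePSL.Reflect
import Cfsg.Agent.Lib.Known.BalanceCriterion
import Cfsg.Agent.Lib.Known.AutPSL.GraphMain

/-!
# Basic facts for the local balance criterion in `Aut (PSL n F)` (owner: helper8)
-/

set_option autoImplicit false

open Matrix

namespace CfsgLib.Known.BalancePSL

open CfsgLib.Known.AutPSL

variable {n : ℕ} {F : Type*} [Field F]

theorem core_map_bot_iff {G : Type*} [Group G] {p : ℕ} (L : Subgroup G) :
    (Cfsg.pPrimeCore p ↥L).map L.subtype = ⊥ ↔ Cfsg.pPrimeCore p ↥L = ⊥ :=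
  Subgroup.map_eq_bot_iff_of_injective _ L.subtype_injective

theorem core_map_conj_mem {G : Type*} [Group G] {p : ℕ} (L : Subgroup G) {y n : G} (hy : y ∈ L)
    (hn : n ∈ (Cfsg.pPrimeCore p ↥L).map L.subtype) :
    y * n * y⁻¹ ∈ (Cfsg.pPrimeCore p ↥L).map L.subtype := by
  obtain ⟨m, hm, rfl⟩ := hn
  exact ⟨⟨y, hy⟩ * m * ⟨y, hy⟩⁻¹, (Components.pPrimeCore_normal p).conj_mem m hm _, rfl⟩

theorem core_map_card {G : Type*} [Group G] [Finite G] {p : ℕ} [hp : Fact p.Prime] (L : Subgroup G) :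
    (Nat.card ↥((Cfsg.pPrimeCore p ↥L).map L.subtype)).Coprime p := by
  rw [Subgroup.card_map_of_injective L.subtype_injective]
  exact Components.pPrimeCore_coprime p

theorem le_core_map {G : Type*} [Group G] [Finite G] {p : ℕ} [hp : Fact p.Prime] {L N : Subgroup G}
    (hle : N ≤ L) (hconj : ∀ l ∈ L, ∀ n ∈ N, l * n * l⁻¹ ∈ N) (hco : (Nat.card N).Coprime p) :
    N ≤ (Cfsg.pPrimeCore p ↥L).map L.subtype := by
  have hn : (N.subgroupOf L).Normal :=
    ⟨fun c hc y => Subgroup.mem_subgroupOf.2 (hconj y y.2 c (Subgroup.mem_subgroupOf.1 hc))⟩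
  have h1 := Components.le_pPrimeCore (p := p) hn (by
    rwa [Nat.card_congr (Subgroup.subgroupOfEquivOfLe hle).toEquiv])
  intro x hx
  exact ⟨⟨x, hle hx⟩, h1 (Subgroup.mem_subgroupOf.2 hx), rfl⟩

/-- The core is invariant under the normalizer. -/
theorem core_map_norm {G : Type*} [Group G] [Finite G] {p : ℕ} [hp : Fact p.Prime] {L : Subgroup G} {d : G}
    (hd : ∀ l ∈ L, d * l * d⁻¹ ∈ L ∧ d⁻¹ * l * d ∈ L) {o : G}
    (ho : o ∈ (Cfsg.pPrimeCore p ↥L).map L.subtype) :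
    d * o * d⁻¹ ∈ (Cfsg.pPrimeCore p ↥L).map L.subtype := by
  set O := (Cfsg.pPrimeCore p ↥L).map L.subtype
  refine le_core_map (N := O.map (MulAut.conj d).toMonoidHom) ?_ ?_ ?_ ⟨o, ho, rfl⟩
  · rintro _ ⟨x, hx, rfl⟩
    exact (hd x (Subgroup.map_subtype_le _ hx)).1
  · rintro l hl _ ⟨x, hx, rfl⟩
    refine ⟨d⁻¹ * l * d * x * (d⁻¹ * l * d)⁻¹, core_map_conj_mem L (hd l hl).2 hx, ?_⟩
    simp only [MulEquiv.coe_toMonoidHom, MulAut.conj_apply]
    group
  · rw [Subgroup.card_map_of_injective (MulAut.conj d).injective]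
    exact core_map_card L

/-- A core that is trivial for every conjugate situation is trivial. -/
theorem core_bot_of_conj {K : Type*} [Group K] [Finite K] {p : ℕ} [hp : Fact p.Prime] {x z a : MulAut K}
    (hxz : a * z * a⁻¹ = x)
    (h : ∀ A : Subgroup (MulAut K), Cfsg.Inn K ≤ A → Cfsg.pPrimeCore p ↥(A ⊓ Subgroup.centralizer {z}) = ⊥)
    (A : Subgroup (MulAut K)) (hinn : Cfsg.Inn K ≤ A) :
    Cfsg.pPrimeCore p ↥(A ⊓ Subgroup.centralizer {x}) = ⊥ := by
  haveI : Finite (MulAut K) := Finite.of_injective (fun a => (a : K → K)) DFunLike.coe_injective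
  subst hxz
  set L := A ⊓ Subgroup.centralizer {a * z * a⁻¹}
  rw [← core_map_bot_iff]
  set O := (Cfsg.pPrimeCore p ↥L).map L.subtype
  set A' := A.comap (MulAut.conj a).toMonoidHom
  have hinn' : Cfsg.Inn K ≤ A' := fun c hc => hinn (Balance.inn_conj_mem hc a)
  have hL : ∀ l, l ∈ A' ⊓ Subgroup.centralizer {z} ↔ a * l * a⁻¹ ∈ L := fun l => by
    rw [Subgroup.mem_inf, Subgroup.mem_inf, Subgroup.mem_comap, Subgroup.mem_centralizer_singleton_iff,
      Subgroup.mem_centralizer_singleton_iff, MulEquiv.coe_toMonoidHom, MulAut.conj_apply]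
    refine and_congr_right fun _ => ⟨fun e => ?_, fun e => ?_⟩
    · calc a * l * a⁻¹ * (a * z * a⁻¹) = a * (l * z) * a⁻¹ := by group
        _ = a * z * a⁻¹ * (a * l * a⁻¹) := by rw [e]; group
    · calc l * z = a⁻¹ * (a * l * a⁻¹ * (a * z * a⁻¹)) * a := by group
        _ = z * l := by rw [e]; group
  have h1 : O.map (MulAut.conj a⁻¹).toMonoidHom ≤ (Cfsg.pPrimeCore p ↥(A' ⊓ Subgroup.centralizer {z})).map
      (A' ⊓ Subgroup.centralizer {z}).subtype := by
    refine le_core_map ?_ ?_ ?_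
    · rintro _ ⟨x, hx, rfl⟩
      rw [hL]
      simpa [mul_assoc] using Subgroup.map_subtype_le _ hx
    · rintro l hl _ ⟨x, hx, rfl⟩
      refine ⟨a * l * a⁻¹ * x * (a * l * a⁻¹)⁻¹, core_map_conj_mem L ((hL l).1 hl) hx, ?_⟩
      simp only [MulEquiv.coe_toMonoidHom, MulAut.conj_apply]
      group
    · rw [Subgroup.card_map_of_injective (MulAut.conj a⁻¹).injective]
      exact core_map_card L
  rw [(core_map_bot_iff _).2 (h A' hinn'), le_bot_iff] at h1
  exact (Subgroup.map_eq_bot_iff_of_injective _ (MulAut.conj a⁻¹).injective).1 h1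

theorem odd_pow_eq_one {G : Type*} [Group G] [Finite G] {O : Subgroup G}
    (hco : (Nat.card O).Coprime 2) {y : G} (hy : y ∈ O) : ∃ k, Odd k ∧ y ^ k = 1 :=
  ⟨Nat.card O, Nat.coprime_two_right.1 hco,
    orderOf_dvd_iff_pow_eq_one.1 (by
      rw [← Subgroup.orderOf_mk y hy]; exact orderOf_dvd_natCard _)⟩

theorem eq_one_of_sq_of_mem {G : Type*} [Group G] [Finite G] {O : Subgroup G}
    (hco : (Nat.card O).Coprime 2) {y : G} (hy : y ∈ O) (h2 : y * y = 1) : y = 1 := by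
  obtain ⟨k, ⟨t, rfl⟩, hk⟩ := odd_pow_eq_one hco hy
  rwa [pow_succ, pow_mul, sq, h2, one_pow, one_mul] at hk

variable [Fintype F]

theorem eq_semilin_of_odd (hn : 2 ≤ n) {y : MulAut (PSL n F)} {k : ℕ} (hk : Odd k) (h : y ^ k = 1) :
    ∃ (g : GL (Fin n) F) (τ : F ≃+* F), y = semilin g τ ∧ τ ^ k = 1 := by
  obtain ⟨θ, hθ⟩ := exists_fieldGraph_hom (F := F) hn
  obtain ⟨g, τ, e, rfl, he⟩ := exists_mkAut hn y
  have h1 := congrArg θ h
  rw [map_pow, map_one, hθ g τ e he, Prod.ext_iff] at h1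
  cases e with
  | false => exact ⟨g, τ, mkAut_false g τ, h1.1⟩
  | true =>
    exfalso
    obtain ⟨t, rfl⟩ := hk
    have h2 := congrArg Multiplicative.toAdd h1.2
    simp only [Prod.pow_snd, if_true, toAdd_pow, toAdd_ofAdd, Prod.snd_one, toAdd_one, nsmul_eq_mul,
      mul_one, Nat.cast_add, Nat.cast_mul] at h2
    rw [show ((2 : ℕ) : ZMod 2) = 0 from rfl, zero_mul, zero_add] at h2
    exact one_ne_zero h2

theorem center_psl_bot (hn : 2 ≤ n) : Subgroup.center (PSL n F) = ⊥ := by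
  rw [eq_bot_iff]
  intro x hx
  obtain ⟨s, rfl⟩ := proj_surjective x
  rw [Subgroup.mem_center_iff] at hx
  have h1 : innDiag n F (Matrix.SpecialLinearGroup.toGL s) = 1 := by
    rw [innDiag_apply, ← conj_eq_semilin]
    exact MulEquiv.ext fun y => by
      rw [MulAut.conj_apply, ← hx y, mul_inv_cancel_right]
      rfl
  obtain ⟨c, hc⟩ := (innDiag_eq_one_iff hn _).1 h1
  rw [Subgroup.mem_bot]
  refine (QuotientGroup.eq_one_iff s).2 (Subgroup.mem_center_iff.2 fun t : SL n F => Subtype.ext ?_)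
  show (t : Matrix (Fin n) (Fin n) F) * (s : Matrix (Fin n) (Fin n) F) =
    (s : Matrix (Fin n) (Fin n) F) * (t : Matrix (Fin n) (Fin n) F)
  rw [show (s : Matrix (Fin n) (Fin n) F) = c • 1 from hc, Matrix.mul_smul, Matrix.smul_mul, Matrix.one_mul, Matrix.mul_one]

/-- A semilinear map fixing enough lines is a scalar, fixing the coefficients. -/
theorem scalar_of_lines (hn : 2 ≤ n) (g : GL (Fin n) F) (τ : F ≃+* F) (S : Set F) (h0 : (0 : F) ∈ S)
    (h1 : (1 : F) ∈ S)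
    (h : ∀ i l : Fin n, i ≠ l → ∀ a ∈ S, ∃ k : F,
      (g : Matrix (Fin n) (Fin n) F) *ᵥ (τ ∘ (bv i + a • bv l)) = k • (bv i + a • bv l)) :
    (∃ c : F, (g : Matrix (Fin n) (Fin n) F) = c • 1) ∧ ∀ a ∈ S, τ a = a := by
  have hcomp : ∀ (i l : Fin n) (a : F), τ ∘ (bv i + a • bv l) = bv i + τ a • bv l := fun i l a => by
    funext q
    simp [AutPSL.bv, Pi.single_apply, apply_ite τ]
  haveI : Nontrivial (Fin n) := Fin.nontrivial_iff_two_le.2 hn
  have hline : ∀ i : Fin n, ∃ k : F, (g : Matrix (Fin n) (Fin n) F) *ᵥ bv i = k • bv i := fun i => by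
    obtain ⟨l, hl⟩ := exists_ne i
    obtain ⟨k, hk⟩ := h i l hl.symm 0 h0
    rw [hcomp, map_zero, zero_smul, add_zero] at hk
    exact ⟨k, hk⟩
  choose k hk using hline
  have key : ∀ i l : Fin n, i ≠ l → ∀ a ∈ S, τ a * k l = a * k i := by
    intro i l hil a ha
    obtain ⟨x, hx⟩ := h i l hil a ha
    rw [hcomp, mulVec_add, mulVec_smul, hk, hk] at hx
    have e1 := congrFun hx i
    have e2 := congrFun hx l
    simp [AutPSL.bv, hil, hil.symm] at e1 e2
    rw [e1, e2]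
    ring
  have hkk : ∀ i l : Fin n, k i = k l := fun i l => by
    rcases eq_or_ne i l with e | e
    · rw [e]
    · have := key i l e 1 h1
      rw [map_one, one_mul, one_mul] at this
      exact this.symm
  set o : Fin n := ⟨0, by omega⟩
  refine ⟨⟨k o, Matrix.ext fun q j => ?_⟩, fun a ha => ?_⟩
  · have := congrFun (hk j) q
    simp only [AutPSL.bv, mulVec_single_one, Pi.smul_apply, smul_eq_mul, Pi.single_apply,
      Matrix.col_apply] at this
    rw [this, hkk j o, Matrix.smul_apply, Matrix.one_apply, smul_eq_mul]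
  · obtain ⟨l, hl⟩ := exists_ne o
    have hk0 : k o ≠ 0 := fun e => bv_ne_zero o (gl_mulVec_inj g (by rw [hk, e, zero_smul]))
    have := key o l hl.symm a ha
    rw [hkk l o] at this
    exact mul_right_cancel₀ hk0 this

theorem par_of_semilin_fix (hn : 2 ≤ n) (g : GL (Fin n) F) (τ : F ≃+* F) {a φ : Fin n → F} (ha : a ≠ 0)
    (hφ : φ ≠ 0) (hd : φ ⬝ᵥ a = 0) (h : semilin g τ (P a φ) = P a φ) :
    ∃ k : F, (g : Matrix (Fin n) (Fin n) F) *ᵥ (τ ∘ a) = k • a := by
  rw [semilin_P, eq_comm] at h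
  rw [P_eq_iff hn hd (by
    rw [← dotProduct_mulVec, mulVec_mulVec, Units.inv_mul, one_mulVec, map_comp_dotProduct, hd, map_zero])] at h
  exact (vecMulVec_eq_iff_par ha hφ h).1

theorem innDiag_mem_inn (hn : 2 ≤ n) {g : GL (Fin n) F}
    (h : (g : Matrix (Fin n) (Fin n) F).det = 1) : innDiag n F g ∈ Cfsg.Inn (PSL n F) := by
  let s : SL n F := ⟨_, h⟩
  refine ⟨proj n F s, ?_⟩
  rw [conj_eq_semilin, innDiag_apply]
  congr 1
  exact Units.ext rfl

theorem innDiag_commutator_mem (hn : 2 ≤ n) (g h : GL (Fin n) F) :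
    innDiag n F g * innDiag n F h * (innDiag n F g)⁻¹ * (innDiag n F h)⁻¹ ∈ Cfsg.Inn (PSL n F) := by
  rw [← map_inv, ← map_inv, ← map_mul, ← map_mul, ← map_mul]
  refine innDiag_mem_inn hn ?_
  rw [← GeneralLinearGroup.val_det_apply, map_mul, map_mul, map_mul, map_inv, map_inv,
    mul_comm (GeneralLinearGroup.det g) (GeneralLinearGroup.det h), mul_inv_cancel_right, mul_inv_cancel,
    Units.val_one]

end CfsgLib.Known.BalancePSL
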