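import Cfsg.Agent.Lib.Known.BalancePSL.Base
import Cfsg.Agent.Lib.Known.PSpSemi.Balance
import Cfsg.Agent.Lib.Classical.SmallIso
import Cfsg.Agent.Lib.Classical.PSLTwoSimple
import Cfsg.Agent.Lib.Classical.SLGroup

/-!
# The local balance data of a field automorphism of `PSL n F` (owner: helper8)
-/

set_option autoImplicit false

open Matrix

namespace CfsgLib.Known.BalancePSL

open CfsgLib.Known.AutPSL
open CfsgLib.Known.PSpSemi (fixF mem_fixF)

variable {n : ℕ}

theorem P_pow {K : Type*} [Field K] {a φ : Fin n → K} (h : φ ⬝ᵥ a = 0) (k : ℕ) :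
    P a φ ^ k = P a ((k : K) • φ) := by
  induction k with
  | zero => rw [pow_zero, Nat.cast_zero, zero_smul, P_zero_right]
  | succ k ih =>
    rw [pow_succ, ih, P_mul_right (by rw [smul_dotProduct, h, smul_zero]) h, Nat.cast_succ, add_smul,
      one_smul]

theorem psl_no_core {K : Type*} [Field K] [Fintype K] (hn : 2 ≤ n) {p r : ℕ} [hp : Fact p.Prime]
    [hr : Fact r.Prime] [CharP K r] (hpr : p ≠ r) (hdvd : p ∣ Nat.card (PSL n K)) (N : Subgroup (PSL n K))
    [N.Normal] (hN : ¬ p ∣ Nat.card N) : N = ⊥ := by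
  classical
  have simple : IsSimpleGroup (PSL n K) → N = ⊥ := fun h => by
    rcases ‹N.Normal›.eq_bot_or_eq_top with h' | h'
    · exact h'
    · rw [h', Subgroup.card_top] at hN
      exact absurd hdvd hN
  by_cases h3 : 3 ≤ n
  · exact simple (Classical.isSimpleGroup_PSL h3)
  obtain rfl : n = 2 := by omega
  by_cases h4 : 4 ≤ Fintype.card K
  · exact simple (Classical.isSimpleGroup_PSL_two h4)
  obtain ⟨k, hr', hk⟩ := FiniteField.card K r
  have hq : Fintype.card K = r := by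
    have h1 : r ^ (k : ℕ) ≤ 3 := by omega
    have h5 : (k : ℕ) = 1 := by
      by_contra hne
      have : 2 ^ 2 ≤ r ^ (k : ℕ) :=
        (Nat.pow_le_pow_left hr'.two_le 2).trans (Nat.pow_le_pow_right hr'.pos (by have := k.pos; omega))
      omega
    rw [hk, h5, pow_one]
  have hr3 : r = 2 ∨ r = 3 := by have := hr'.two_le; omega
  have hcard := Classical.Two.card_PSL_two (F := K)
  rw [hq] at hcard
  set G := PSL 2 K
  have hG : (r = 2 ∧ Nat.card G = 6) ∨ (r = 3 ∧ Nat.card G = 12) := by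
    change _ * Nat.card G = _ at hcard
    generalize Nat.card G = X at hcard ⊢
    rcases hr3 with e | e <;> rw [e] at hcard <;> norm_num at hcard
    · exact Or.inl ⟨e, hcard⟩
    · exact Or.inr ⟨e, by omega⟩
  have hNd := Subgroup.card_subgroup_dvd_card N
  have hN1 : Nat.card N = 1 ∨ Nat.card N = r := by
    rcases hG with ⟨rfl, hc⟩ | ⟨rfl, hc⟩ <;> rw [hc] at hNd hdvd
    · have hp3 : p = 3 := by
        have : p ≤ 6 := Nat.le_of_dvd (by norm_num) hdvd
        have := hp.out.two_le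
        interval_cases p <;> first | omega | exact absurd hp.out (by norm_num)
      subst hp3
      have : Nat.card N ≤ 6 := Nat.le_of_dvd (by norm_num) hNd
      generalize Nat.card N = k at this hNd hN ⊢
      interval_cases k <;> omega
    · have hp2 : p = 2 := by
        have : p ≤ 12 := Nat.le_of_dvd (by norm_num) hdvd
        have := hp.out.two_le
        interval_cases p <;> first | omega | exact absurd hp.out (by norm_num)
      subst hp2
      have : Nat.card N ≤ 12 := Nat.le_of_dvd (by norm_num) hNd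
      generalize Nat.card N = k at this hNd hN ⊢
      interval_cases k <;> omega
  rcases hN1 with h | h
  · exact Subgroup.eq_bot_of_card_eq _ h
  exfalso
  have hidx : Nat.Coprime r (Nat.card (G ⧸ N)) := by
    have := N.card_eq_card_quotient_mul_card_subgroup
    rw [h] at this
    rcases hG with ⟨rfl, hc⟩ | ⟨rfl, hc⟩
    · rw [Nat.eq_of_mul_eq_mul_right (by norm_num : 0 < 2)
        ((this.symm.trans hc).trans (by norm_num : (6 : ℕ) = 3 * 2))]
      norm_num
    · rw [Nat.eq_of_mul_eq_mul_right (by norm_num : 0 < 3)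
        ((this.symm.trans hc).trans (by norm_num : (12 : ℕ) = 4 * 3))]
      norm_num
  have hmem : ∀ i j : Fin 2, i ≠ j → P (bv i) (bv j : Fin 2 → K) ∈ N := fun i j hij => by
    rw [← QuotientGroup.eq_one_iff, ← orderOf_eq_one_iff]
    refine Nat.eq_one_of_dvd_coprimes hidx ?_ (orderOf_dvd_natCard _)
    refine orderOf_dvd_of_pow_eq_one ?_
    rw [← QuotientGroup.mk_pow, P_pow (bv_dot_bv hij), CharP.cast_eq_zero, zero_smul, P_zero_right,
      QuotientGroup.mk_one]
  have h0 := hmem 0 1 (by decide)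
  have hne : P (bv 0) (bv 1 : Fin 2 → K) ≠ 1 := fun h' =>
    ((P_eq_one_iff le_rfl (bv_dot_bv (by decide : (0 : Fin 2) ≠ 1))).1 h').elim (bv_ne_zero 0) (bv_ne_zero 1)
  have hz : Subgroup.zpowers (P (bv 0) (bv 1 : Fin 2 → K)) = N := by
    refine Subgroup.eq_of_le_of_card_ge (Subgroup.zpowers_le.2 h0) ?_
    rw [h, Nat.card_zpowers, orderOf_eq_prime (by
      rw [P_pow (bv_dot_bv (by decide)), CharP.cast_eq_zero, zero_smul, P_zero_right]) hne]
  have h1 := hmem 1 0 (by decide)
  rw [← hz] at h1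
  obtain ⟨i, hi⟩ := (mem_powers_iff_mem_zpowers).2 h1
  have hi' : P (bv 0) (bv 1 : Fin 2 → K) ^ i = P (bv 1) (bv 0) := hi
  rw [P_pow (bv_dot_bv (by decide)), P_eq_iff le_rfl (by
    rw [smul_dotProduct, bv_dot_bv (by decide), smul_zero]) (bv_dot_bv (by decide))] at hi'
  have := congrFun₂ hi' 1 0
  simp [vecMulVec_apply, AutPSL.bv] at this

theorem dvd_card_psl {K : Type*} [Field K] [Fintype K] (hn : 2 ≤ n) {p : ℕ} [hp : Fact p.Prime]
    (hpn : p ∣ n) (h2 : p = 2 → (2 : K) ≠ 0) : p ∣ Nat.card (PSL n K) := by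
  classical
  have fin : ∀ M : SL n K, proj n K M ≠ 1 → proj n K M ^ p = 1 → p ∣ Nat.card (PSL n K) :=
    fun M h1 h3 => by rw [← orderOf_eq_prime h3 h1]; exact orderOf_dvd_natCard _
  have notone : ∀ M : SL n K, (∃ i j, i ≠ j ∧ (M : Matrix (Fin n) (Fin n) K) i j ≠ 0) →
      proj n K M ≠ 1 := by
    rintro M ⟨i, j, hij, hne⟩ h
    obtain ⟨r, -, hr⟩ := Matrix.SpecialLinearGroup.mem_center_iff.1 ((QuotientGroup.eq_one_iff M).1 h)
    rw [← hr] at hne
    simp [hij] at hne
  by_cases hA : p = 2 ∧ n < 4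
  · obtain ⟨rfl, hn4⟩ := hA
    obtain rfl : n = 2 := by omega
    let M : SL 2 K := ⟨!![0, 1; -1, 0], by simp [Matrix.det_fin_two]⟩
    refine fin M (notone M ⟨0, 1, by decide, by simp [M]⟩) ?_
    rw [← map_pow]
    refine (QuotientGroup.eq_one_iff _).2 (Matrix.SpecialLinearGroup.mem_center_iff.2 ⟨-1, by simp, ?_⟩)
    rw [sq, Matrix.SpecialLinearGroup.coe_mul]
    ext i j
    fin_cases i <;> fin_cases j <;> simp [M, Matrix.mul_apply, Fin.sum_univ_two]
  haveI : Nontrivial (Fin n) := Fin.nontrivial_iff_two_le.2 hn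
  have hd : p ∣ Nat.card (alternatingGroup (Fin n)) := by
    have h := two_mul_card_alternatingGroup (α := Fin n)
    rw [← Nat.card_eq_fintype_card, ← Nat.card_eq_fintype_card, Nat.card_perm, Nat.card_fin] at h
    rcases hp.out.eq_two_or_odd' with hp2 | hodd
    · subst hp2
      have h4 : 4 ∣ n.factorial := Nat.dvd_factorial (by norm_num) (by
        by_contra h'; exact hA ⟨rfl, by omega⟩)
      omega
    · have h5 : p ∣ 2 * Nat.card (alternatingGroup (Fin n)) :=
        h.symm ▸ Nat.dvd_factorial hp.out.pos (Nat.le_of_dvd (by omega) hpn)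
      exact ((Nat.coprime_primes hp.out Nat.prime_two).2 (by
        rintro rfl; exact absurd hodd (by decide))).dvd_of_dvd_mul_left h5
  obtain ⟨π, hπ⟩ := exists_prime_orderOf_dvd_card' p hd
  let M : SL n K := ⟨(π : Equiv.Perm (Fin n)).permMatrix K, by
    rw [det_permutation, Equiv.Perm.mem_alternatingGroup.1 π.2]; simp⟩
  refine fin M (notone M ?_) ?_
  · obtain ⟨i, hi⟩ : ∃ i, (π : Equiv.Perm (Fin n)) i ≠ i := by
      by_contra hcon
      push Not at hcon
      refine hp.out.one_lt.ne ?_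
      rw [← hπ, orderOf_eq_one_iff.2 (Subtype.ext (Equiv.ext hcon))]
    exact ⟨i, (π : Equiv.Perm (Fin n)) i, fun e => hi e.symm, by simp [M]⟩
  · rw [← map_pow]
    have hpow : ∀ k, ((M ^ k : SL n K) : Matrix (Fin n) (Fin n) K) =
        ((π : Equiv.Perm (Fin n)) ^ k).permMatrix K := by
      intro k
      induction k with
      | zero => simp
      | succ k ih =>
        rw [pow_succ, Matrix.SpecialLinearGroup.coe_mul, ih, pow_succ', permMatrix_mul]
    rw [show M ^ p = 1 from Subtype.ext (by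
      rw [hpow, ← Subgroup.coe_pow, show π ^ p = 1 by rw [← hπ, pow_orderOf_eq_one]]; simp), map_one]

variable {F : Type*} [Field F] [Fintype F] (σ : F ≃+* F)

/-- The descended general linear group. -/
noncomputable def psi : GL (Fin n) (fixF σ) →* GL (Fin n) F :=
  Units.map (RingHom.mapMatrix (fixF σ).subtype).toMonoidHom

theorem coe_psi (h : GL (Fin n) (fixF σ)) :
    (psi σ h : Matrix (Fin n) (Fin n) F) = (h : Matrix (Fin n) (Fin n) (fixF σ)).map (fixF σ).subtype := rfl

theorem exists_psi (hn : 2 ≤ n) (g : GL (Fin n) F)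
    (hg : innDiag n F g * fieldHom n F σ = fieldHom n F σ * innDiag n F g) :
    ∃ h, innDiag n F g = innDiag n F (psi σ h) := by
  obtain ⟨c, hc⟩ := (innDiag_comm_fieldHom g σ hn).1 hg
  haveI : Nonempty (Fin n) := ⟨⟨0, by omega⟩⟩
  obtain ⟨i, k, hik⟩ : ∃ i k, (g : Matrix (Fin n) (Fin n) F) i k ≠ 0 := by
    by_contra hcon
    push Not at hcon
    exact g.ne_zero (Matrix.ext hcon)
  set a := (g : Matrix (Fin n) (Fin n) F) i k with ha
  have hca : σ a = c * a := congrFun₂ hc i k
  have hfix : ∀ u v, (g : Matrix (Fin n) (Fin n) F) u v / a ∈ (fixF σ).subtype.range := fun u v => by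
    rw [← mem_fixF, map_div₀, hca, show σ ((g : Matrix (Fin n) (Fin n) F) u v) = _ from congrFun₂ hc u v]
    have hc0 : c ≠ 0 := fun h => by rw [h, zero_mul, map_eq_zero] at hca; exact hik hca
    rw [Matrix.smul_apply, smul_eq_mul, mul_div_mul_left _ _ hc0]
  choose m hm using hfix
  have hmap : (Matrix.of m).map (fixF σ).subtype = a⁻¹ • (g : Matrix (Fin n) (Fin n) F) := by
    ext u v
    simpa [div_eq_inv_mul] using hm u v
  have hdet : IsUnit (Matrix.of m).det := by
    rw [isUnit_iff_ne_zero, ← map_ne_zero (fixF σ).subtype, RingHom.map_det]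
    show ((Matrix.of m).map (fixF σ).subtype).det ≠ 0
    rw [hmap, Matrix.det_smul]
    exact mul_ne_zero (pow_ne_zero _ (inv_ne_zero hik)) (GeneralLinearGroup.det g).ne_zero
  refine ⟨GeneralLinearGroup.mk'' _ hdet, ?_⟩
  rw [innDiag_apply, innDiag_apply, ← mkAut_false, ← mkAut_false, mkAut_eq_iff hn fun _ => ⟨rfl, rfl⟩]
  exact ⟨rfl, rfl, a⁻¹, hmap⟩

theorem psi_comm (hn : 2 ≤ n) (h : GL (Fin n) (fixF σ)) :
    innDiag n F (psi σ h) * fieldHom n F σ = fieldHom n F σ * innDiag n F (psi σ h) :=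
  (innDiag_comm_fieldHom _ σ hn).2 ⟨1, by
    rw [one_smul, coe_psi]
    exact Matrix.ext fun a b => (mem_fixF σ _).2 ⟨_, rfl⟩⟩

/-- An automorphism fixing the root elements over the fixed field is a field automorphism. -/
theorem mem_zpowers_of_fix_P (hn : 2 ≤ n) {p f r : ℕ} [Fact p.Prime] [Fact r.Prime]
    (hF : Fintype.card F = r ^ f) (hf : 1 ≤ f) (hord : orderOf σ = p) (y : MulAut (PSL n F))
    (hy : ∀ a φ : Fin n → fixF σ, φ ⬝ᵥ a = 0 →
      y (P ((fixF σ).subtype ∘ a) ((fixF σ).subtype ∘ φ)) =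
        P ((fixF σ).subtype ∘ a) ((fixF σ).subtype ∘ φ)) :
    y ∈ Subgroup.zpowers (fieldHom n F σ) := by
  classical
  set j := (fixF σ).subtype
  have hdot : ∀ a φ : Fin n → fixF σ, φ ⬝ᵥ a = 0 → (j ∘ φ) ⬝ᵥ (j ∘ a) = 0 := fun a φ h => by
    rw [← map_zero j, ← h]
    simp [dotProduct, map_sum]
  have hb : ∀ i : Fin n, j ∘ bv i = (bv i : Fin n → F) := fun i => by
    funext q
    simp [AutPSL.bv, Pi.single_apply, apply_ite j]
  have hne : ∀ a : Fin n → fixF σ, a ≠ 0 → j ∘ a ≠ 0 := fun a h h0 =>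
    h (funext fun q => Subtype.ext (congrFun h0 q))
  obtain ⟨g, τ, e, rfl, he⟩ := exists_mkAut hn y
  have he' : e = false := by
    by_contra hcon
    rw [Bool.not_eq_false] at hcon
    subst hcon
    have h3 : 3 ≤ n := Nat.lt_of_le_of_ne hn fun h => by simpa using he h.symm
    set i : Fin n := ⟨0, by omega⟩
    have hl : ∀ l, l ≠ i → ∃ k : F, (g : Matrix (Fin n) (Fin n) F) *ᵥ bv l = k • bv i := by
      intro l hli
      have h1 := hy (bv i) (bv l) (bv_dot_bv hli.symm)
      rw [hb, hb, mkAut_true, MulAut.mul_apply, iota_P, semilin_P, eq_comm,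
        P_eq_iff hn (bv_dot_bv hli.symm) (by
          rw [← dotProduct_mulVec, mulVec_mulVec, Units.inv_mul, one_mulVec, map_comp_dotProduct,
            neg_dotProduct, bv_dot_bv hli, neg_zero, map_zero])] at h1
      obtain ⟨k, hk⟩ := (vecMulVec_eq_iff_par (bv_ne_zero _) (bv_ne_zero _) h1).1
      have hτb : τ ∘ (bv l : Fin n → F) = bv l := by
        funext q
        simp [AutPSL.bv, Pi.single_apply, apply_ite τ]
      rw [hτb] at hk
      exact ⟨k, hk⟩
    obtain ⟨l1, hl1, -⟩ := exists_ne_ne h3 i i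
    obtain ⟨l2, hl2, hl21⟩ := exists_ne_ne h3 i l1
    obtain ⟨k1, hk1⟩ := hl l1 hl1
    obtain ⟨k2, hk2⟩ := hl l2 hl2
    have h0 : (g : Matrix (Fin n) (Fin n) F) *ᵥ (k2 • bv l1 - k1 • bv l2) = 0 := by
      rw [mulVec_sub, mulVec_smul, mulVec_smul, hk1, hk2, smul_comm, sub_self]
    have h1 := congrFun (gl_mulVec_inj g h0) l1
    simp [AutPSL.bv, hl21.symm] at h1
    rw [h1, zero_smul] at hk2
    exact bv_ne_zero l2 (gl_mulVec_inj g hk2)
  subst he'
  rw [mkAut_false] at hy ⊢
  obtain ⟨⟨c, hc⟩, hτ⟩ := scalar_of_lines hn g τ (fixF σ : Set F) (zero_mem _) (one_mem _)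
    fun i l hil a ha => by
      set α : fixF σ := ⟨a, ha⟩
      have hd : (α • bv i - bv l : Fin n → fixF σ) ⬝ᵥ (bv i + α • bv l) = 0 := by
        simp [sub_dotProduct, dotProduct_add, dotProduct_smul, AutPSL.bv, hil, hil.symm]
      have h1 : (bv i + α • bv l : Fin n → fixF σ) ≠ 0 := fun h0 => by
        have := congrFun h0 i
        simp [AutPSL.bv, hil] at this
      have h2 : (α • bv i - bv l : Fin n → fixF σ) ≠ 0 := fun h0 => by
        have := congrFun h0 l
        simp [AutPSL.bv, hil.symm] at this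
      have hja : j ∘ (bv i + α • bv l : Fin n → fixF σ) = bv i + a • bv l := by
        rw [← hb i, ← hb l]
        funext q
        simp [j, α]
      rw [← hja]
      exact par_of_semilin_fix hn g τ (hne _ h1) (hne _ h2) (hdot _ _ hd) (hy _ _ hd)
  obtain ⟨i, hi⟩ := PSpSemi.mem_zpowers_of_fix σ hF hf hord τ fun a => hτ a a.2
  refine ⟨i, ?_⟩
  show fieldHom n F σ ^ i = semilin g τ
  rw [← map_zpow, show σ ^ i = τ from hi, fieldHom_apply, ← mkAut_false, ← mkAut_false,
    mkAut_eq_iff hn fun _ => ⟨rfl, rfl⟩]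
  exact ⟨rfl, rfl, c, by rw [hc, Units.val_one]⟩

theorem field_data (hn : 2 ≤ n) {p f r : ℕ} [hp : Fact p.Prime] [hr : Fact r.Prime] (hpr : p ≠ r)
    (hF : Fintype.card F = r ^ f) (hf : 1 ≤ f) (hord : orderOf σ = p) :
    Balance.Data p (fieldHom n F σ) := by
  classical
  haveI : Fintype (fixF σ) := Fintype.ofFinite _
  haveI : Finite (MulAut (PSL n F)) :=
    Finite.of_injective (fun a => (a : PSL n F → PSL n F)) DFunLike.coe_injective
  haveI := charP_of_card hF hf
  haveI : CharP (fixF σ) r :=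
    (RingHom.charP_iff (fixF σ).subtype (fixF σ).subtype.injective r).2 ‹CharP F r›
  set j := (fixF σ).subtype
  set C := Cfsg.Inn (PSL n F) ⊓ Subgroup.centralizer {fieldHom n F σ} with hC
  have hc := center_psl_bot (F := F) hn
  have hnot : fieldHom n F σ ∉ (innDiag n F).range := by
    rintro ⟨g, hg⟩
    rw [innDiag_apply, fieldHom_apply, ← mkAut_false, ← mkAut_false,
      mkAut_eq_iff hn fun _ => ⟨rfl, rfl⟩] at hg
    rw [← hg.1, show RingEquiv.refl F = (1 : F ≃+* F) from rfl, orderOf_one] at hord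
    exact hp.out.one_lt.ne hord
  let ω₀ : SL n (fixF σ) →* MulAut (PSL n F) :=
    ((innDiag n F).comp (psi σ)).comp Matrix.SpecialLinearGroup.toGL
  have hker : ω₀.ker = Subgroup.center (SL n (fixF σ)) := by
    ext s
    rw [MonoidHom.mem_ker, Matrix.SpecialLinearGroup.mem_center_iff]
    show innDiag n F (psi σ (Matrix.SpecialLinearGroup.toGL s)) = 1 ↔ _
    rw [innDiag_eq_one_iff hn, coe_psi]
    constructor
    · rintro ⟨c, hc⟩
      set o : Fin n := ⟨0, by omega⟩
      have hkey : ∀ u v, (s.1 u v : F) = c * (1 : Matrix (Fin n) (Fin n) F) u v := fun u v => congrFun₂ hc u v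
      have hs : scalar (Fin n) (s.1 o o) = s.1 := by
        ext u v
        by_cases huv : u = v
        · subst huv
          simp [hkey]
        · simp [huv, hkey]
      refine ⟨s.1 o o, ?_, hs⟩
      have hdet := s.2
      rw [← hs, scalar_apply, det_diagonal, Finset.prod_const, Finset.card_univ] at hdet
      exact hdet
    · rintro ⟨c, -, hc'⟩
      refine ⟨j c, ?_⟩
      show (s : Matrix (Fin n) (Fin n) (fixF σ)).map j = j c • 1
      rw [← hc']
      ext u v
      by_cases huv : u = v <;> simp [huv]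
  let ω : PSL n (fixF σ) →* MulAut (PSL n F) := QuotientGroup.lift _ ω₀ hker.ge
  have hω : ∀ s, ω (proj n (fixF σ) s) = innDiag n F (psi σ (Matrix.SpecialLinearGroup.toGL s)) :=
    fun s => rfl
  have hωinj : Function.Injective ω :=
    (injective_iff_map_eq_one _).2 fun x hx => by
      obtain ⟨s, rfl⟩ := proj_surjective x
      exact (QuotientGroup.eq_one_iff s).2 (hker ▸ (MonoidHom.mem_ker.2 hx))
  have hωC : ∀ x, ω x ∈ C := fun x => by
    obtain ⟨s, rfl⟩ := proj_surjective x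
    rw [hω]
    refine Subgroup.mem_inf.2 ⟨innDiag_mem_inn hn ?_, Subgroup.mem_centralizer_singleton_iff.2 (psi_comm σ hn _)⟩
    rw [coe_psi, ← RingHom.mapMatrix_apply, ← RingHom.map_det]
    exact (congrArg (fixF σ).subtype s.2).trans (map_one _)
  have hωP : ∀ a φ : Fin n → fixF σ, φ ⬝ᵥ a = 0 →
      ω (P a φ) = MulAut.conj (P (j ∘ a) (j ∘ φ)) := fun a φ h => by
    have h' : (j ∘ φ) ⬝ᵥ (j ∘ a) = 0 := by
      rw [← map_zero j, ← h]
      simp [dotProduct, map_sum]
    rw [P_of h, P_of h', hω, conj_eq_semilin, innDiag_apply]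
    congr 1
    refine Units.ext ?_
    rw [coe_psi]
    show (tvSL a φ h : Matrix (Fin n) (Fin n) (fixF σ)).map j = (tvSL (j ∘ a) (j ∘ φ) h' : Matrix (Fin n) (Fin n) F)
    rw [coe_tvSL, coe_tvSL]
    ext u v
    by_cases huv : u = v <;> simp [vecMulVec_apply, huv]
  have hfixP : ∀ y : MulAut (PSL n F), (∀ x, ω x * y = y * ω x) → ∀ a φ : Fin n → fixF σ, φ ⬝ᵥ a = 0 →
      y (P (j ∘ a) (j ∘ φ)) = P (j ∘ a) (j ∘ φ) := fun y hy a φ h => by
    rw [Balance.fix_iff_commute hc, ← hωP a φ h]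
    exact hy _
  have hrep : ∀ c ∈ C, ∃ h, c = innDiag n F (psi σ h) := by
    intro c hc'
    obtain ⟨hc1, hc2⟩ := Subgroup.mem_inf.1 hc'
    obtain ⟨g, rfl⟩ := inn_le_inndiag hc1
    exact exists_psi σ hn g (Subgroup.mem_centralizer_singleton_iff.1 hc2)
  refine ⟨fun h => hnot (inn_le_inndiag h), fun h => ?_, fun y _ hy => ?_, ?_⟩
  · set o : Fin n := ⟨0, by omega⟩
    set o' : Fin n := ⟨1, by omega⟩
    have hoo : o ≠ o' := by simp [o, o', Fin.ext_iff]
    have := hωC (P (bv o) (bv o'))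
    replace this := (Subgroup.mem_bot).1 ((le_of_eq h) this)
    rw [← map_one ω] at this
    exact ((P_eq_one_iff hn (bv_dot_bv hoo)).1 (hωinj this)).elim (bv_ne_zero _) (bv_ne_zero _)
  · exact mem_zpowers_of_fix_P σ hn hF hf hord y (hfixP y fun x => hy _ (hωC x))
  intro hdvd N hNC hNn hNp
  have hWn : ∀ c ∈ C, ∀ x, c * ω x * c⁻¹ ∈ ω.range := fun c hc' x => by
    obtain ⟨h, rfl⟩ := hrep c hc'
    obtain ⟨s, rfl⟩ := proj_surjective x
    set t := Matrix.SpecialLinearGroup.toGL s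
    let u : SL n (fixF σ) := ⟨((h * t * h⁻¹ : GL (Fin n) (fixF σ)) : Matrix _ _ _), by
      rw [Units.val_mul, Units.val_mul, det_units_conj]; exact s.2⟩
    refine ⟨proj n (fixF σ) u, ?_⟩
    rw [hω, hω, ← map_inv, ← map_mul, ← map_mul, ← map_inv (psi σ), ← map_mul (psi σ), ← map_mul (psi σ)]
    congr 2
    exact Units.ext rfl
  have hcard : Nat.card ω.range = Nat.card (PSL n (fixF σ)) :=
    (Nat.card_congr (MonoidHom.ofInjective hωinj).toEquiv).symm
  have hdL : p ∣ Nat.card (PSL n (fixF σ)) := by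
    by_cases hpn : p ∣ n
    · refine dvd_card_psl hn hpn fun h2 h0 => hpr ?_
      rw [h2]
      exact ((Nat.prime_dvd_prime_iff_eq hr.out Nat.prime_two).1
        ((CharP.cast_eq_zero_iff (fixF σ) r 2).1 (by simpa using h0))).symm
    · obtain ⟨⟨c, hc'⟩, hco⟩ := exists_prime_orderOf_dvd_card' p hdvd
      rw [← Subgroup.orderOf_coe] at hco
      obtain ⟨h, rfl⟩ := hrep c hc'
      have hmem : innDiag n F (psi σ h) ^ n ∈ ω.range := by
        let d := GeneralLinearGroup.det h
        let u : SL n (fixF σ) := ⟨((d⁻¹ : (fixF σ)ˣ) : fixF σ) •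
            ((h ^ n : GL (Fin n) (fixF σ)) : Matrix _ _ _), by
          rw [det_smul, Fintype.card_fin, Units.val_pow_eq_pow_val, det_pow, ← mul_pow,
            ← GeneralLinearGroup.val_det_apply, ← Units.val_mul, inv_mul_cancel, Units.val_one, one_pow]⟩
        refine ⟨proj n (fixF σ) u, ?_⟩
        rw [hω, ← map_pow, ← map_pow, innDiag_apply, innDiag_apply, ← mkAut_false, ← mkAut_false,
          mkAut_eq_iff hn fun _ => ⟨rfl, rfl⟩]
        refine ⟨rfl, rfl, ((d : fixF σ) : F), ?_⟩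
        rw [coe_psi, coe_psi]
        ext a b
        show j ((h ^ n : GL (Fin n) (fixF σ)) a b) =
          j (d : fixF σ) * j (((d⁻¹ : (fixF σ)ˣ) : fixF σ) * (h ^ n : GL (Fin n) (fixF σ)) a b)
        rw [← map_mul, ← mul_assoc, Units.mul_inv, one_mul]
      obtain ⟨k, hk⟩ := exists_pow_eq_self_of_coprime (x := innDiag n F (psi σ h)) (n := n) (by
        rw [hco]; exact (hp.out.coprime_iff_not_dvd.2 hpn).symm)
      have h3 : innDiag n F (psi σ h) ∈ ω.range := hk ▸ pow_mem hmem k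
      rw [← hcard, ← hco, ← Subgroup.orderOf_mk (innDiag n F (psi σ h)) h3]
      exact orderOf_dvd_natCard _
  haveI : (N.comap ω).Normal := ⟨fun x hx y => by
    rw [Subgroup.mem_comap, map_mul, map_mul, map_inv]
    exact hNn _ (hωC y) _ hx⟩
  have hbot : N.comap ω = ⊥ := psl_no_core hn hpr hdL _ fun h => hNp (h.trans (by
    rw [← Subgroup.card_map_of_injective hωinj]
    exact Subgroup.card_dvd_of_le (Subgroup.map_comap_le ω N)))
  rw [eq_bot_iff]
  intro y hy
  rw [Subgroup.mem_bot]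
  have hcomm : ∀ x, ω x * y = y * ω x := fun x => by
    obtain ⟨w, hw⟩ := hWn y (hNC hy) x
    have hmem : y * ω x * y⁻¹ * (ω x)⁻¹ ∈ N := by
      rw [show y * ω x * y⁻¹ * (ω x)⁻¹ = y * (ω x * y⁻¹ * (ω x)⁻¹) by group]
      exact mul_mem hy (hNn _ (hωC x) _ (inv_mem hy))
    rw [← hw, ← map_inv, ← map_mul] at hmem
    have h := Subgroup.mem_bot.1 (hbot ▸ (Subgroup.mem_comap.2 hmem))
    rw [mul_inv_eq_one] at h
    rw [h] at hw
    calc ω x * y = y * ω x * y⁻¹ * y := by rw [← hw]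
      _ = y * ω x := by group
  obtain ⟨i, hi⟩ := mem_zpowers_of_fix_P σ hn hF hf hord y (hfixP y hcomm)
  have hi' : fieldHom n F σ ^ i = y := hi
  obtain ⟨g, hg⟩ := inn_le_inndiag (Subgroup.mem_inf.1 (hNC hy)).1
  rw [← hi', ← map_zpow, innDiag_apply, fieldHom_apply, ← mkAut_false, ← mkAut_false,
    mkAut_eq_iff hn fun _ => ⟨rfl, rfl⟩] at hg
  rw [← hi', ← map_zpow, ← hg.1]
  exact map_one _

end CfsgLib.Known.BalancePSL
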