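import Cfsg.Agent.Lib.Known.BalancePSL.Base
import Cfsg.Agent.Lib.Known.PSpSemi.Basic

/-!
# Graph involutions of symplectic type have trivial core (owner: helper8)
-/

set_option autoImplicit false

open Matrix

namespace CfsgLib.Known.BalancePSL

open CfsgLib.Known.AutPSL CfsgLib.Known.AutPSL.Graph
open CfsgLib.Known (PSpSemi.SpG PSpSemi.Idx)

variable {n m : ℕ} {F : Type*} [Field F] [Fintype F]

theorem symp_normal (hm : 2 ≤ m) (h2 : (2 : F) ≠ 0) (K : Subgroup (PSpSemi.SpG m F)) [K.Normal]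
    (hc : Subgroup.center (PSpSemi.SpG m F) ≤ K) : K = Subgroup.center (PSpSemi.SpG m F) ∨ K = ⊤ := by
  haveI : IsSimpleGroup (Cfsg.PSp m F) :=
    Classical.Symp.isSimpleGroup_psp (by omega) (Or.inl ⟨hm, h2⟩)
  have hn : (K.map (QuotientGroup.mk' (Subgroup.center (PSpSemi.SpG m F)))).Normal :=
    ‹K.Normal›.map _ QuotientGroup.mk_surjective
  rcases hn.eq_bot_or_eq_top with h | h
  · left
    rw [Subgroup.map_eq_bot_iff, QuotientGroup.ker_mk'] at h
    exact le_antisymm h hc
  · right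
    refine (Subgroup.eq_top_iff' K).2 fun s => ?_
    obtain ⟨k, hk, e⟩ : (QuotientGroup.mk' (Subgroup.center (PSpSemi.SpG m F))) s ∈
        K.map (QuotientGroup.mk' (Subgroup.center (PSpSemi.SpG m F))) := by rw [h]; trivial
    have h3 : k⁻¹ * s ∈ Subgroup.center (PSpSemi.SpG m F) := QuotientGroup.eq.1 e
    simpa using mul_mem hk (hc h3)

variable (e : PSpSemi.Idx m ≃ Fin n)

/-- The symplectic group inside the inner-diagonal automorphisms. -/
noncomputable def rho : PSpSemi.SpG m F →* MulAut (PSL n F) :=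
  (innDiag n F).comp ((glReindex e).toMonoidHom.comp
    (Matrix.symplecticGroup (Fin m) F).subtype.toHomUnits)

/-- The matrix in `GL n F` of a symplectic matrix. -/
noncomputable def rhoGL (s : PSpSemi.SpG m F) : GL (Fin n) F :=
  glReindex e ((Matrix.symplecticGroup (Fin m) F).subtype.toHomUnits s)

theorem rho_apply (s : PSpSemi.SpG m F) : rho e s = innDiag n F (rhoGL e s) := rfl

theorem coe_rhoGL (s : PSpSemi.SpG m F) : (rhoGL e s : Matrix (Fin n) (Fin n) F) =
    (s : Matrix (PSpSemi.Idx m) (PSpSemi.Idx m) F).submatrix e.symm e.symm := rfl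

theorem alt_core_bot (hn : 3 ≤ n) (hm : 2 ≤ m) (h2 : (2 : F) ≠ 0) (S : GL (Fin n) F)
    (hS : (S : Matrix (Fin n) (Fin n) F) = (Matrix.J (Fin m) F).submatrix e.symm e.symm)
    (A : Subgroup (MulAut (PSL n F))) (hA : Cfsg.Inn (PSL n F) ≤ A) :
    Cfsg.pPrimeCore 2 ↥(A ⊓ Subgroup.centralizer {graphAut S}) = ⊥ := by
  classical
  haveI : Finite (MulAut (PSL n F)) :=
    Finite.of_injective (fun a => (a : PSL n F → PSL n F)) DFunLike.coe_injective
  have hn2 : 2 ≤ n := by omega
  have h1m : 1 ≤ m := by omega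
  set z := graphAut S
  set Z := A ⊓ Subgroup.centralizer {z} with hZ
  set W := (rho (F := F) e).range with hW
  have hker : Subgroup.center (PSpSemi.SpG m F) ≤ (rho e).ker := fun s hs => by
    obtain ⟨c, hc⟩ := (PSpSemi.mem_center_iff h1m s).1 hs
    rw [MonoidHom.mem_ker, rho_apply, innDiag_eq_one_iff hn2]
    refine ⟨c, ?_⟩
    rw [coe_rhoGL, hc]
    ext i l
    by_cases hil : i = l <;> simp [hil]
  have hWcomm : ∀ s, rho e s * z = z * rho e s := fun s => by
    rw [rho_apply, comm_graphAut_iff hn]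
    refine ⟨1, ?_⟩
    rw [Units.val_one, one_smul, coe_rhoGL, hS, transpose_submatrix, submatrix_mul_equiv,
      submatrix_mul_equiv, SymplecticGroup.mem_iff.1 s.2]
  -- transvections
  have hT : ∀ (v : PSpSemi.Idx m → F) (c : F),
      ((c • (Matrix.J (Fin m) F *ᵥ v)) ∘ e.symm) ⬝ᵥ (v ∘ e.symm) = 0 ∧
      rho e (PSpSemi.tS v c) = MulAut.conj (P (v ∘ e.symm) ((c • (Matrix.J (Fin m) F *ᵥ v)) ∘ e.symm)) := by
    intro v c
    have hd : ((c • (Matrix.J (Fin m) F *ᵥ v)) ∘ e.symm) ⬝ᵥ (v ∘ e.symm) = 0 := by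
      have h0 := PSpSemi.form_self v
      rw [Classical.Symp.sympBil_apply, Cfsg.sympForm] at h0
      rw [comp_equiv_dotProduct_comp_equiv, smul_dotProduct, dotProduct_comm, h0, smul_zero]
    refine ⟨hd, ?_⟩
    rw [P_of hd, conj_eq_semilin, rho_apply, innDiag_apply]
    congr 1
    refine Units.ext ?_
    rw [coe_rhoGL]
    show (1 + c • vecMulVec v (Matrix.J (Fin m) F *ᵥ v)).submatrix e.symm e.symm =
      1 + vecMulVec (v ∘ e.symm) ((c • (Matrix.J (Fin m) F *ᵥ v)) ∘ e.symm)
    ext i l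
    simp [vecMulVec_apply, Matrix.one_apply]
    ring
  have hWinn : W ≤ Cfsg.Inn (PSL n F) := by
    have hle : Subgroup.center (PSpSemi.SpG m F) ≤ (Cfsg.Inn (PSL n F)).comap (rho e) := fun s hs =>
      by rw [Subgroup.mem_comap, MonoidHom.mem_ker.1 (hker hs)]; exact one_mem _
    rcases symp_normal hm h2 _ hle with h | h
    · exfalso
      set v : PSpSemi.Idx m → F := Pi.single (Sum.inl ⟨0, by omega⟩) 1 with hv
      have h1 : PSpSemi.tS v (1 : F) ∈ (Cfsg.Inn (PSL n F)).comap (rho e) := by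
        rw [Subgroup.mem_comap, (hT v 1).2]; exact ⟨_, rfl⟩
      rw [h, PSpSemi.mem_center_iff h1m] at h1
      obtain ⟨c, hc⟩ := h1
      obtain ⟨x, hx⟩ := PSpSemi.exists_form_one (v := v) (by simp [hv])
      have e1 := PSpSemi.tS_mulVec v (1 : F) x
      rw [hc, hx, one_mul, one_smul, smul_mulVec, one_mulVec] at e1
      have e2 := congrArg (fun u => Classical.Symp.sympBil m F u v) e1
      simp only [map_smul, map_add, LinearMap.smul_apply, LinearMap.add_apply, PSpSemi.form_self, hx,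
        smul_eq_mul, mul_one, add_zero] at e2
      rw [e2, one_smul] at e1
      have : v = 0 := by linear_combination (norm := module) -e1
      simp [hv] at this
    · rintro _ ⟨s, rfl⟩
      exact (Subgroup.eq_top_iff' _).1 h s
  have hWZ : W ≤ Z := fun w hw => Subgroup.mem_inf.2 ⟨hA (hWinn hw), by
    obtain ⟨s, rfl⟩ := hw
    exact Subgroup.mem_centralizer_singleton_iff.2 (hWcomm s)⟩
  have hDW : ∀ g : GL (Fin n) F, innDiag n F g * z = z * innDiag n F g → ∀ w ∈ W,
      innDiag n F g * w * (innDiag n F g)⁻¹ ∈ W := by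
    rintro g hg _ ⟨s, rfl⟩
    obtain ⟨c, hc⟩ := (comm_graphAut_iff hn g S).1 hg
    set h := (glReindex e).symm g with hh
    have hgh : g = glReindex e h := by rw [hh, MulEquiv.apply_symm_apply]
    set Jm := Matrix.J (Fin m) F
    set H := (h : Matrix (PSpSemi.Idx m) (PSpSemi.Idx m) F) with hH
    set H' := ((h⁻¹ : GL (PSpSemi.Idx m) F) : Matrix (PSpSemi.Idx m) (PSpSemi.Idx m) F)
    rw [hgh, hS, coe_glReindex, transpose_submatrix, submatrix_mul_equiv, submatrix_mul_equiv] at hc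
    have hJ : H * Jm * Hᵀ = (c : F) • Jm := Matrix.ext fun i l => by
      have := congrFun₂ hc (e i) (e l)
      simpa using this
    have h1 : H' * H = 1 := by rw [hH, Units.inv_mul]
    have h2' : H' * Jm * H'ᵀ = ((c⁻¹ : Fˣ) : F) • Jm := by
      have e2 := congrArg (fun X => H' * X * H'ᵀ) hJ
      simp only [← mul_assoc, h1, one_mul] at e2
      rw [mul_assoc Jm, ← transpose_mul, h1, transpose_one, mul_one, Matrix.mul_smul,
        Matrix.smul_mul] at e2
      conv_rhs => arg 2; rw [e2]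
      rw [smul_smul, Units.inv_mul, one_smul]
    have hmem : H * (s : Matrix _ _ F) * H' ∈ Matrix.symplecticGroup (Fin m) F := by
      rw [SymplecticGroup.mem_iff, transpose_mul, transpose_mul]
      calc H * (s : Matrix _ _ F) * H' * Jm * (H'ᵀ * ((s : Matrix _ _ F)ᵀ * Hᵀ))
          = H * (s : Matrix _ _ F) * (H' * Jm * H'ᵀ) * (s : Matrix _ _ F)ᵀ * Hᵀ := by
            simp only [mul_assoc]
        _ = ((c⁻¹ : Fˣ) : F) • (H * ((s : Matrix _ _ F) * Jm * (s : Matrix _ _ F)ᵀ) * Hᵀ) := by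
            rw [h2']; simp only [Matrix.mul_smul, Matrix.smul_mul, mul_assoc]
        _ = Jm := by rw [SymplecticGroup.mem_iff.1 s.2, hJ, smul_smul, Units.inv_mul, one_smul]
    refine ⟨⟨_, hmem⟩, ?_⟩
    rw [rho_apply, rho_apply, ← map_inv, ← map_mul, ← map_mul]
    refine congrArg _ (Units.ext ?_)
    rw [coe_rhoGL, hgh, Units.val_mul, Units.val_mul, ← map_inv, coe_glReindex, coe_glReindex,
      coe_rhoGL, submatrix_mul_equiv, submatrix_mul_equiv]
  rw [← core_map_bot_iff]
  set N := (Cfsg.pPrimeCore 2 ↥Z).map Z.subtype with hN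
  have hNZ : N ≤ Z := Subgroup.map_subtype_le _
  haveI hKn : (N.comap (rho e)).Normal := ⟨fun k hk s => by
    rw [Subgroup.mem_comap, map_mul, map_mul, map_inv]
    exact core_map_conj_mem Z (hWZ ⟨s, rfl⟩) hk⟩
  have hNW : ∀ w ∈ N, w ∈ W → w = 1 := by
    have hle : Subgroup.center (PSpSemi.SpG m F) ≤ N.comap (rho e) := fun s hs => by
      rw [Subgroup.mem_comap, MonoidHom.mem_ker.1 (hker hs)]; exact one_mem _
    rcases symp_normal hm h2 _ hle with h | h
    · rintro w hw ⟨s, rfl⟩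
      exact MonoidHom.mem_ker.1 (hker (h ▸ (Subgroup.mem_comap.2 hw)))
    · exfalso
      set j : PSpSemi.SpG m F := ⟨Matrix.J (Fin m) F, SymplecticGroup.J_mem (Fin m) F⟩
      have hj : rho e j ∈ N := (Subgroup.eq_top_iff' _).1 h j
      have hjj : rho e j * rho e j = 1 := by
        rw [← map_mul]
        refine MonoidHom.mem_ker.1 (hker ((PSpSemi.mem_center_iff h1m _).2 ⟨-1, ?_⟩))
        show Matrix.J (Fin m) F * Matrix.J (Fin m) F = _
        rw [Matrix.J_squared, neg_one_smul]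
      have h1 := eq_one_of_sq_of_mem (core_map_card Z) hj hjj
      rw [rho_apply, innDiag_eq_one_iff hn2] at h1
      obtain ⟨c, hc⟩ := h1
      have e1 := congrFun₂ hc (e (Sum.inl ⟨0, by omega⟩)) (e (Sum.inr ⟨0, by omega⟩))
      simp [coe_rhoGL, j, Matrix.J] at e1
  -- what commutes with `W` is trivial
  have hkey : ∀ y ∈ N, (∀ w ∈ W, w * y = y * w) → y = 1 := by
    intro y hy hyW
    obtain ⟨k, hk, hk1⟩ := odd_pow_eq_one (core_map_card Z) hy
    obtain ⟨g, τ, rfl, -⟩ := eq_semilin_of_odd hn2 hk hk1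
    obtain ⟨⟨c, hc⟩, hτ⟩ := scalar_of_lines hn2 g τ Set.univ trivial trivial fun i l hil a _ => by
      set w : Fin n → F := bv i + a • bv l with hw
      set v : PSpSemi.Idx m → F := w ∘ e with hv
      have hve : v ∘ e.symm = w := by funext q; simp [hv]
      obtain ⟨hd, hr⟩ := hT v 1
      rw [hve] at hd hr
      have hw0 : w ≠ 0 := fun h0 => by
        have := congrFun h0 i
        simp [hw, AutPSL.bv, hil] at this
      refine par_of_semilin_fix hn2 g τ hw0 ?_ hd ((Balance.fix_iff_commute (center_psl_bot hn2) _ _).2 ?_)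
      · intro h0
        refine hw0 ?_
        have h1 : Matrix.J (Fin m) F *ᵥ v = 0 := funext fun q => by simpa using congrFun h0 (e q)
        have h3 := congrArg (Matrix.J (Fin m) F).mulVec h1
        rw [mulVec_mulVec, Matrix.J_squared, neg_mulVec, one_mulVec, mulVec_zero, neg_eq_zero] at h3
        rw [← hve, h3]; rfl
      · rw [← hr]
        exact hyW _ ⟨_, rfl⟩
    rw [show τ = RingEquiv.refl F from RingEquiv.ext fun x => hτ x trivial]
    exact (semilin_eq_one_iff hn2 g _).2 ⟨rfl, c, hc⟩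
  haveI hnor : ((innDiag n F).range).Normal := inndiag_normal hn2
  have hND : ∀ y ∈ N, y ∈ (innDiag n F).range → y = 1 := by
    rintro y hy ⟨g, rfl⟩
    refine hkey _ hy fun w hw => ?_
    set y := innDiag n F g
    have h1 : y * w * y⁻¹ * w⁻¹ = 1 := hNW _ (by
      have := mul_mem hy (core_map_conj_mem Z (hWZ hw) (inv_mem hy))
      rwa [show y * (w * y⁻¹ * w⁻¹) = y * w * y⁻¹ * w⁻¹ by group] at this)
      (mul_mem (hDW g (Subgroup.mem_centralizer_singleton_iff.1 (Subgroup.mem_inf.1 (hNZ hy)).2) w hw)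
        (inv_mem hw))
    calc w * y = (y * w * y⁻¹ * w⁻¹) * (w * y) := by rw [h1, one_mul]
      _ = y * w := by group
  rw [eq_bot_iff]
  intro y hy
  refine Subgroup.mem_bot.2 (hkey y hy fun w hw => ?_)
  have h1 : y * w * y⁻¹ * w⁻¹ = 1 := hND _ (by
    have := mul_mem hy (core_map_conj_mem Z (hWZ hw) (inv_mem hy))
    rwa [show y * (w * y⁻¹ * w⁻¹) = y * w * y⁻¹ * w⁻¹ by group] at this)
    (mul_mem (hnor.conj_mem _ (inn_le_inndiag (hWinn hw)) y) (inv_mem (inn_le_inndiag (hWinn hw))))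
  calc w * y = (y * w * y⁻¹ * w⁻¹) * (w * y) := by rw [h1, one_mul]
    _ = y * w := by group

end CfsgLib.Known.BalancePSL
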