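import Cfsg.Agent.Lib.Known.BalancePSL.Base

/-!
# Graph and graph-field involutions of diagonal type have trivial core (owner: helper8)
-/

set_option autoImplicit false

open Matrix

namespace CfsgLib.Known.BalancePSL

open CfsgLib.Known.AutPSL

variable {n : ℕ} {F : Type*} [Field F] {d : Fin n → F} {σ : F ≃+* F}

theorem map_comp_mulVec (τ : F ≃+* F) (A : Matrix (Fin n) (Fin n) F) (v : Fin n → F) :
    A.map τ *ᵥ (τ ∘ v) = τ ∘ (A *ᵥ v) :=
  funext fun i => (RingHom.map_mulVec τ.toRingHom A v i).symm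

theorem comp_bv (τ : F ≃+* F) (i : Fin n) : τ ∘ (bv i : Fin n → F) = bv i := by
  funext q
  simp [AutPSL.bv, Pi.single_apply, apply_ite τ]

theorem herm_eq_dot (u v : Fin n → F) :
    herm d σ u v = u ⬝ᵥ Matrix.diagonal d *ᵥ (σ ∘ v) := by
  simp only [herm, dotProduct, mulVec_diagonal, Function.comp]
  exact Finset.sum_congr rfl fun i _ => by ring

theorem herm_mulVec (A : Matrix (Fin n) (Fin n) F) (u v : Fin n → F) :
    herm d σ (A *ᵥ u) (A *ᵥ v) = u ⬝ᵥ (Aᵀ * Matrix.diagonal d * A.map σ) *ᵥ (σ ∘ v) := by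
  rw [herm_eq_dot, ← map_comp_mulVec, dotProduct_comm, ← dotProduct_comm, ← mulVec_mulVec,
    ← mulVec_mulVec, dotProduct_mulVec u Aᵀ, vecMul_transpose]

theorem isIsom_matrix {g : GL (Fin n) F} (h : IsIsom d σ g) :
    (g : Matrix (Fin n) (Fin n) F)ᵀ * Matrix.diagonal d * (g : Matrix (Fin n) (Fin n) F).map σ =
      Matrix.diagonal d :=
  Matrix.ext fun i l => by
    have := h (bv i) (bv l)
    rw [herm_mulVec, herm_eq_dot, comp_bv] at this
    rcases eq_or_ne i l with h' | h'
    · subst h'; simpa [AutPSL.bv] using this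
    · simpa [AutPSL.bv, h', Ne.symm h'] using this

theorem det_refl {z : Fin n → F} (hz : herm d σ z z ≠ 0) :
    (refl hz : Matrix (Fin n) (Fin n) F).det = -1 := by
  have e : (refl hz : Matrix (Fin n) (Fin n) F) =
      1 + vecMulVec z (-fun i => 2 / herm d σ z z * (d i * σ (z i))) := by
    rw [vecMulVec_neg, ← sub_eq_add_neg]
    rfl
  rw [e, det_one_add_vecMulVec, neg_dotProduct,
    show (fun i => 2 / herm d σ z z * (d i * σ (z i))) ⬝ᵥ z = 2 / herm d σ z z * herm d σ z z by
      simp only [dotProduct]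
      conv_rhs => enter [2]; unfold herm
      rw [Finset.mul_sum]
      exact Finset.sum_congr rfl fun i _ => by ring,
    div_mul_cancel₀ _ hz]
  ring

variable [Fintype F]

/-- The criterion for commuting with a diagonal graph-field automorphism. -/
theorem comm_diag_iff (hn : 3 ≤ n) (S g : GL (Fin n) F) :
    innDiag n F g * mkAut S σ true = mkAut S σ true * innDiag n F g ↔
      ∃ c : F, c ≠ 0 ∧ (g : Matrix (Fin n) (Fin n) F) * (S : Matrix (Fin n) (Fin n) F) *
        ((g : Matrix (Fin n) (Fin n) F).map σ)ᵀ = c • (S : Matrix (Fin n) (Fin n) F) := by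
  haveI : Nonempty (Fin n) := ⟨⟨0, by omega⟩⟩
  rw [innDiag_apply, ← mkAut_false, mkAut_mul, mkAut_mul, if_pos rfl,
    mkAut_eq_iff (by omega) fun h => absurd h (by omega)]
  simp only [Bool.false_eq_true, if_false, Bool.false_xor, Bool.xor_false, RingEquiv.coe_trans,
    show σ.trans (RingEquiv.refl F) = σ from RingEquiv.ext fun _ => rfl,
    show (RingEquiv.refl F).trans σ = σ from RingEquiv.ext fun _ => rfl, true_and, Units.val_mul,
    coe_glMap, RingEquiv.coe_refl, Matrix.map_id]
  set G := (g : Matrix (Fin n) (Fin n) F) with hG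
  set G' := ((g⁻¹ : GL (Fin n) F) : Matrix (Fin n) (Fin n) F)
  change (∃ c : F, (S : Matrix (Fin n) (Fin n) F) * G'ᵀ.map σ =
    c • (G * (S : Matrix (Fin n) (Fin n) F))) ↔ _
  have hcan : G'ᵀ.map σ * (G.map σ)ᵀ = 1 := by
    rw [← Matrix.transpose_map, ← Matrix.map_mul, ← Matrix.transpose_mul, hG, Units.mul_inv,
      Matrix.transpose_one, Matrix.map_one _ (map_zero σ) (map_one σ)]
  have hcan' : (G.map σ)ᵀ * G'ᵀ.map σ = 1 := mul_eq_one_comm.1 hcan
  constructor
  · rintro ⟨c, hc⟩
    have h := congrArg (· * (G.map σ)ᵀ) hc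
    simp only [mul_assoc, hcan, mul_one, Matrix.smul_mul] at h
    have hc0 : c ≠ 0 := by
      rintro rfl
      rw [zero_smul] at h
      exact S.ne_zero h
    exact ⟨c⁻¹, inv_ne_zero hc0, by rw [mul_assoc, eq_inv_smul_iff₀ hc0]; exact h.symm⟩
  · rintro ⟨c, hc0, hc⟩
    refine ⟨c⁻¹, ?_⟩
    have h := congrArg (· * G'ᵀ.map σ) hc
    simp only [mul_assoc, hcan', mul_one, Matrix.smul_mul] at h
    rw [h, inv_smul_smul₀ hc0]

variable {s : Fin n → F}

theorem diag_inv_mul (hs : ∀ i, s i ≠ 0) :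
    Matrix.diagonal s * Matrix.diagonal (fun i => (s i)⁻¹) = 1 := by
  rw [diagonal_mul_diagonal, ← diagonal_one]
  congr 1
  funext i
  exact mul_inv_cancel₀ (hs i)

theorem diag_comm_of_isom (hn : 3 ≤ n) (H : HermData (fun i => (s i)⁻¹) σ) {S g : GL (Fin n) F}
    (hS : (S : Matrix (Fin n) (Fin n) F) = Matrix.diagonal s) (hg : IsIsom (fun i => (s i)⁻¹) σ g) :
    innDiag n F g * mkAut S σ true = mkAut S σ true * innDiag n F g := by
  rw [comm_diag_iff hn]
  refine ⟨1, one_ne_zero, ?_⟩
  set D := Matrix.diagonal fun i => (s i)⁻¹ with hD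
  set G := (g : Matrix (Fin n) (Fin n) F)
  have hs : ∀ i, s i ≠ 0 := fun i h => H.ne0 i (by simp [h])
  have hDσ : D.map σ = D := by
    rw [hD, diagonal_map (map_zero σ)]
    exact congrArg _ (funext H.fix)
  have hGG : (G.map σ).map σ = G := Matrix.ext fun i j => H.invol _
  have h1 : (G.map σ)ᵀ * D * G = D := by
    have h := congrArg (fun A : Matrix (Fin n) (Fin n) F => A.map σ) (isIsom_matrix hg)
    change (Gᵀ * D * G.map σ).map σ = D.map σ at h
    rwa [Matrix.map_mul, Matrix.map_mul, hDσ, hGG, Matrix.transpose_map] at h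
  have h2 : (S : Matrix (Fin n) (Fin n) F) * ((G.map σ)ᵀ * D) * G = 1 := by
    rw [mul_assoc, h1, hS, diag_inv_mul hs]
  have h3 := congrArg (· * Matrix.diagonal s) (mul_eq_one_comm.1 h2)
  simp only [mul_assoc, one_mul] at h3
  rw [mul_eq_one_comm.1 (diag_inv_mul hs), mul_one] at h3
  rw [one_smul, mul_assoc, h3, hS]

theorem sim_of_comm (hn : 3 ≤ n) (H : HermData (fun i => (s i)⁻¹) σ) {S g : GL (Fin n) F}
    (hS : (S : Matrix (Fin n) (Fin n) F) = Matrix.diagonal s)
    (hg : innDiag n F g * mkAut S σ true = mkAut S σ true * innDiag n F g) :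
    IsSim (fun i => (s i)⁻¹) σ g := by
  obtain ⟨c, hc0, hc⟩ := (comm_diag_iff hn S g).1 hg
  set D := Matrix.diagonal fun i => (s i)⁻¹ with hD
  set G := (g : Matrix (Fin n) (Fin n) F)
  have hs : ∀ i, s i ≠ 0 := fun i h => H.ne0 i (by simp [h])
  have h1 := congrArg (· * D) hc
  simp only [Matrix.smul_mul, hS, hD, diag_inv_mul hs] at h1
  have h2 : G * (c⁻¹ • (Matrix.diagonal s * (G.map σ)ᵀ * D)) = 1 := by
    rw [Matrix.mul_smul, ← mul_assoc, ← mul_assoc, h1, inv_smul_smul₀ hc0]
  have h3 := congrArg (fun A => c • (D * A)) (mul_eq_one_comm.1 h2)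
  simp only [Matrix.smul_mul, Matrix.mul_smul, mul_one, smul_inv_smul₀ hc0, ← mul_assoc] at h3
  rw [mul_eq_one_comm.1 (diag_inv_mul hs), one_mul] at h3
  have h4 := congrArg (fun A : Matrix (Fin n) (Fin n) F => A.map σ) h3
  have hDσ : D.map σ = D := by
    rw [hD, diagonal_map (map_zero σ)]
    exact congrArg _ (funext H.fix)
  have hGG : (G.map σ).map σ = G := Matrix.ext fun i j => H.invol _
  have hsm : (c • D).map σ = σ c • D := by
    conv_rhs => rw [← hDσ]
    exact Matrix.ext fun i j => map_mul σ c (D i j)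
  have h5 : Gᵀ * D * G.map σ = σ c • D := by
    change ((G.map σ)ᵀ * D * G).map σ = (c • D).map σ at h4
    rwa [Matrix.map_mul, Matrix.map_mul, hDσ, hsm, Matrix.transpose_map, hGG] at h4
  refine ⟨σ c, fun u v => ?_⟩
  rw [herm_mulVec, h5, smul_mulVec, dotProduct_smul, smul_eq_mul, herm_eq_dot]

omit [Fintype F] in
theorem refl_entries {S : Subfield F} (hdS : ∀ i, d i ∈ S) (hSσ : ∀ a ∈ S, σ a ∈ S) {z : Fin n → F}
    (hz : herm d σ z z ≠ 0) (hzS : ∀ i, z i ∈ S) (p q : Fin n) :
    (refl hz : Matrix (Fin n) (Fin n) F) p q ∈ S := by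
  show (1 - vecMulVec z (fun i => 2 / herm d σ z z * (d i * σ (z i))) : Matrix (Fin n) (Fin n) F) p q ∈ S
  rw [Matrix.sub_apply, vecMulVec_apply]
  refine sub_mem ?_ (mul_mem (hzS p) (mul_mem (div_mem (natCast_mem S 2)
    (sum_mem fun i _ => mul_mem (mul_mem (hdS i) (hzS i)) (hSσ _ (hzS i))))
      (mul_mem (hdS q) (hSσ _ (hzS q)))))
  rcases eq_or_ne p q with h | h
  · subst h; rw [Matrix.one_apply_eq]; exact one_mem S
  · rw [Matrix.one_apply_ne h]; exact zero_mem S

omit [Fintype F] in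
theorem mul_entries {S : Subfield F} {A B : Matrix (Fin n) (Fin n) F} (hA : ∀ p q, A p q ∈ S)
    (hB : ∀ p q, B p q ∈ S) (p q : Fin n) : (A * B) p q ∈ S := by
  rw [mul_apply]
  exact sum_mem fun i _ => mul_mem (hA p i) (hB i q)

omit [Fintype F] in
theorem bv_entries (S : Subfield F) (i q : Fin n) : (bv i : Fin n → F) q ∈ S := by
  rcases eq_or_ne q i with h | h
  · subst h; simp [AutPSL.bv, one_mem]
  · simp [AutPSL.bv, h, zero_mem]

/-- An automorphism of odd order fixing enough isometries over a subfield fixes that subfield's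
fixed elements. -/
theorem odd_cent_sub (hn : 3 ≤ n) (H : HermData d σ) (h2 : (2 : F) ≠ 0) (S : Subfield F)
    (hdS : ∀ i, d i ∈ S) (hSσ : ∀ a ∈ S, σ a ∈ S)
    (hij : ∃ i j l : Fin n, i ≠ j ∧ i ≠ l ∧ j ≠ l ∧ d i = d j) {g : GL (Fin n) F} {τ : F ≃+* F} {k : ℕ}
    (hk : Odd k) (hpow : semilin g τ ^ k = 1)
    (hc : ∀ h : GL (Fin n) F, IsIsom d σ h → (h : Matrix (Fin n) (Fin n) F).det = 1 →
      (∀ p q, (h : Matrix (Fin n) (Fin n) F) p q ∈ S) →
      innDiag n F h * semilin g τ = semilin g τ * innDiag n F h) :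
    ∀ a ∈ S, σ a = a → τ a = a := by
  classical
  haveI : Nonempty (Fin n) := ⟨⟨0, by omega⟩⟩
  set G := (g : Matrix (Fin n) (Fin n) F) with hG
  have hcomm : ∀ h : GL (Fin n) F, IsIsom d σ h → (h : Matrix (Fin n) (Fin n) F).det = 1 →
      (∀ p q, (h : Matrix (Fin n) (Fin n) F) p q ∈ S) →
      ∃ c : F, (h : Matrix (Fin n) (Fin n) F) * G = c • (G * (h : Matrix (Fin n) (Fin n) F).map τ) := by
    intro h hh hd hS'
    have e := (hc h hh hd hS').symm
    rw [innDiag_apply, semilin_mul, semilin_mul, ← mkAut_false, ← mkAut_false,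
      mkAut_eq_iff (by omega) fun h => absurd h (by omega)] at e
    obtain ⟨-, -, c, hc'⟩ := e
    refine ⟨c, ?_⟩
    rw [Units.val_mul, Units.val_mul, coe_glMap, coe_glMap, RingEquiv.coe_refl, Matrix.map_id] at hc'
    exact hc'
  have hbv : ∀ i, herm d σ (bv i) (bv i) ≠ 0 := fun i => by
    rw [herm_bv_right]
    simpa [AutPSL.bv] using H.ne0 i
  have hoff : ∀ i l, i ≠ l → herm d σ (bv i) (bv l) = 0 := fun i l h => by
    rw [herm_bv_right]; simp [AutPSL.bv, h.symm]
  have hdiag : ∀ a b, a ≠ b → G a b = 0 := by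
    intro a b hab
    obtain ⟨l, hla, hlb⟩ := exists_ne_ne hn a b
    set ε : Fin n → F := fun q => if q = a ∨ q = l then -1 else 1 with hε
    have hE : ((refl (hbv a) * refl (hbv l) : GL (Fin n) F) : Matrix (Fin n) (Fin n) F) =
        Matrix.diagonal ε := by
      refine mat_eq_of_mulVec fun x => ?_
      rw [Units.val_mul, ← mulVec_mulVec, refl_mulVec, refl_mulVec, herm_sub_left, herm_smul_left,
        hoff l a hla, herm_bv_right, herm_bv_right, herm_bv_right, herm_bv_right]
      funext q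
      simp only [AutPSL.bv, Pi.sub_apply, Pi.smul_apply, smul_eq_mul, Pi.single_apply, mulVec_diagonal, hε,
        if_pos, mul_zero, sub_zero, mul_one]
      have := H.ne0 a
      have := H.ne0 l
      by_cases hqa : q = a
      · subst hqa; simp [hla.symm]; field_simp; ring
      · by_cases hql : q = l
        · subst hql; simp [hqa]; field_simp; ring
        · simp [hqa, hql]
    obtain ⟨c, hc'⟩ := hcomm _ ((refl_isom H (hbv a)).mul (refl_isom H (hbv l)))
      (by rw [Units.val_mul, det_mul, det_refl, det_refl, neg_one_mul, neg_neg])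
      (fun p q => by
        rw [Units.val_mul]
        exact mul_entries (refl_entries hdS hSσ _ (bv_entries S a))
          (refl_entries hdS hSσ _ (bv_entries S l)) p q)
    have hτε : (Matrix.diagonal ε).map τ = Matrix.diagonal ε := by
      rw [diagonal_map (map_zero τ)]
      congr 1
      funext q
      simp only [hε]
      split_ifs <;> simp
    rw [hE, hτε] at hc'
    have hc0 : c ≠ 0 := by
      rintro rfl
      rw [zero_smul] at hc'
      have := congrArg (fun A => A * ((g⁻¹ : GL (Fin n) F) : Matrix (Fin n) (Fin n) F)) hc'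
      simp only [mul_assoc, hG, Units.mul_inv, mul_one, zero_mul] at this
      have e := congrFun₂ this a a
      simp [hε] at e
    have hpm : c = 1 ∨ c = -1 := by
      obtain ⟨u, v, huv⟩ : ∃ u v, G u v ≠ 0 := by
        by_contra hcon
        push Not at hcon
        exact g.ne_zero (Matrix.ext hcon)
      have e := congrFun₂ hc' u v
      rw [diagonal_mul, Matrix.smul_apply, mul_diagonal, smul_eq_mul] at e
      have hεv : ∀ q, ε q = 1 ∨ ε q = -1 := fun q => by simp only [hε]; split_ifs <;> simp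
      rcases hεv u with e1 | e1 <;> rcases hεv v with e2 | e2 <;> rw [e1, e2] at e
      · left; exact mul_right_cancel₀ huv (by linear_combination -e)
      · right; exact mul_right_cancel₀ huv (by linear_combination e)
      · right; exact mul_right_cancel₀ huv (by linear_combination -e)
      · left; exact mul_right_cancel₀ huv (by linear_combination e)
    have hτc : τ c = c := by rcases hpm with rfl | rfl <;> simp
    have hN : ∀ j : ℕ, Matrix.diagonal ε * Descent.normMat G τ j =
        c ^ j • (Descent.normMat G τ j * Matrix.diagonal ε) := by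
      intro j
      induction j with
      | zero => simp [Descent.normMat]
      | succ j ih =>
        have e := congrArg (fun A : Matrix (Fin n) (Fin n) F => A.map τ) ih
        simp only [Matrix.map_mul, hτε] at e
        rw [show ((c ^ j • (Descent.normMat G τ j * Matrix.diagonal ε)).map τ) =
          c ^ j • ((Descent.normMat G τ j).map τ * Matrix.diagonal ε) by
            rw [← hτε, ← Matrix.map_mul, hτε]
            exact Matrix.ext fun p q => by
              rw [Matrix.map_apply, Matrix.smul_apply, Matrix.smul_apply, Matrix.map_apply, smul_eq_mul,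
                smul_eq_mul, map_mul, map_pow, hτc]] at e
        show Matrix.diagonal ε * (G * (Descent.normMat G τ j).map τ) =
          c ^ (j + 1) • (G * (Descent.normMat G τ j).map τ * Matrix.diagonal ε)
        rw [← mul_assoc, hc', Matrix.smul_mul, mul_assoc, e, Matrix.mul_smul, smul_smul, pow_succ',
          ← mul_assoc]
    obtain ⟨N, hNv, hNp⟩ := semilin_pow g τ k
    rw [hpow, eq_comm, semilin_eq_one_iff (by omega)] at hNp
    obtain ⟨-, e, he⟩ := hNp
    have he0 : e ≠ 0 := by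
      rintro rfl
      rw [zero_smul] at he
      exact N.ne_zero he
    have hk' := hN k
    rw [← hNv, he, Matrix.mul_smul, mul_one, Matrix.smul_mul, one_mul, smul_smul] at hk'
    have hck : c ^ k = 1 := by
      have e' := congrFun₂ hk' a a
      simp only [Matrix.smul_apply, diagonal_apply_eq, hε, true_or, if_true, smul_eq_mul] at e'
      exact mul_right_cancel₀ he0 (by linear_combination e')
    have hc1 : c = 1 := by
      rcases hpm with h | h
      · exact h
      · rw [h, hk.neg_one_pow] at hck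
        exact h.trans hck
    subst hc1
    rw [one_smul] at hc'
    have e' := congrFun₂ hc' a b
    simp only [diagonal_mul, mul_diagonal, hε, true_or, if_true, hab.symm, hlb.symm, false_or,
      if_false, mul_one] at e'
    exact (mul_eq_zero.1 (show (2 : F) * G a b = 0 by linear_combination -e')).resolve_left h2
  have hτ : ∀ x ∈ S, τ (x * σ x) = x * σ x := by
    intro x hxS
    obtain ⟨i, j, l, hij', hil, hjl, hd⟩ := hij
    by_cases hx : 1 + x * σ x = 0
    · rw [show x * σ x = -1 by linear_combination hx, map_neg, map_one]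
    set u : Fin n → F := bv i + x • bv j with hu
    have hBiu : herm d σ (bv i) u = d i := by
      rw [hu, herm_add_right, herm_smul_right, hoff i j hij', herm_bv_right]
      simp [AutPSL.bv]
    have hBju : herm d σ (bv j) u = σ x * d j := by
      rw [hu, herm_add_right, herm_smul_right, hoff j i hij'.symm, herm_bv_right]
      simp [AutPSL.bv]
    have hQu : herm d σ u u = d i * (1 + x * σ x) := by
      conv_lhs => arg 3; rw [hu]
      rw [herm_add_left, herm_smul_left, hBiu, hBju, ← hd]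
      ring
    have hu0 : herm d σ u u ≠ 0 := by rw [hQu]; exact mul_ne_zero (H.ne0 i) hx
    obtain ⟨c, hc'⟩ := hcomm _ ((refl_isom H hu0).mul (refl_isom H (hbv l)))
      (by rw [Units.val_mul, det_mul, det_refl, det_refl, neg_one_mul, neg_neg])
      (fun p q => by
        rw [Units.val_mul]
        refine mul_entries (refl_entries hdS hSσ _ fun r => ?_) (refl_entries hdS hSσ _ (bv_entries S l)) p q
        exact add_mem (bv_entries S i r) (mul_mem hxS (bv_entries S j r)))
    set R := ((refl hu0 * refl (hbv l) : GL (Fin n) F) : Matrix (Fin n) (Fin n) F) with hR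
    have hlu : herm d σ (bv l) u = 0 := by
      rw [hu, herm_add_right, herm_smul_right, hoff l i hil.symm, hoff l j hjl.symm, mul_zero, add_zero]
    have hRl : R *ᵥ bv l = -bv l := by
      rw [hR, Units.val_mul, ← mulVec_mulVec, refl_self, mulVec_neg, refl_fix hu0 hlu]
    have hRi : R *ᵥ bv i = bv i - (2 * d i / herm d σ u u) • u := by
      rw [hR, Units.val_mul, ← mulVec_mulVec, refl_fix (hbv l) (hoff i l hil), refl_mulVec, hBiu]
    have hent : ∀ q p, R q p = (R *ᵥ bv p) q := fun q p => by simp [AutPSL.bv]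
    have hGq : ∀ q, (R * G) q q = R q q * G q q := fun q => by
      rw [mul_apply, Finset.sum_eq_single q (fun b _ hb => by rw [hdiag b q hb, mul_zero]) (by simp)]
    have hGq' : ∀ q, (G * R.map τ) q q = G q q * τ (R q q) := fun q => by
      rw [mul_apply, Finset.sum_eq_single q (fun b _ hb => by rw [hdiag q b hb.symm, zero_mul]) (by simp),
        Matrix.map_apply]
    have hG0 : ∀ q, G q q ≠ 0 := fun q h0 => by
      refine bv_ne_zero q (gl_mulVec_inj g (funext fun p => ?_))
      rcases eq_or_ne p q with e | e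
      · subst e; simpa [AutPSL.bv] using h0
      · simpa [AutPSL.bv] using hdiag p q e
    have el := congrFun₂ hc' l l
    rw [hGq, Matrix.smul_apply, hGq', hent, hRl] at el
    simp [AutPSL.bv] at el
    have hc1 : c = 1 := mul_right_cancel₀ (hG0 l) (by linear_combination -el)
    subst hc1
    have ei := congrFun₂ hc' i i
    rw [one_smul, hGq, hGq', hent, hRi, hQu] at ei
    simp [AutPSL.bv, hu, hij'] at ei
    have e3 : τ (2 * d i / (d i * (1 + x * σ x))) = 2 * d i / (d i * (1 + x * σ x)) := by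
      have e4 := mul_left_cancel₀ (hG0 i)
        (show G i i * τ (1 - 2 * d i / (d i * (1 + x * σ x))) = G i i * (1 - 2 * d i / (d i * (1 + x * σ x))) by
          simp only [map_sub, map_one, map_div₀, map_mul, map_add, map_ofNat] at ei ⊢
          linear_combination -ei)
      rw [map_sub, map_one] at e4
      linear_combination -e4
    rw [show 2 * d i / (d i * (1 + x * σ x)) = 2 / (1 + x * σ x) by
      have := H.ne0 i; field_simp, map_div₀, map_ofNat, map_add, map_one] at e3
    have hx' : 1 + τ (x * σ x) ≠ 0 := fun h => hx (τ.injective (by rw [map_add, map_one, h, map_zero]))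
    rw [div_eq_div_iff hx' hx] at e3
    exact (mul_left_cancel₀ h2 (by linear_combination e3)).symm
  intro a haS ha
  have e1 := hτ a haS
  have e2 := hτ (a + 1) (add_mem haS (one_mem S))
  simp only [map_add, map_one, map_mul, ha] at e1 e2
  exact mul_left_cancel₀ h2 (by linear_combination e2 - e1)

/-- An automorphism of odd order fixing enough isometries is inner-diagonal. -/
theorem odd_cent (hn : 3 ≤ n) (H : HermData d σ) (h2 : (2 : F) ≠ 0)
    (hij : ∃ i j l : Fin n, i ≠ j ∧ i ≠ l ∧ j ≠ l ∧ d i = d j) {g : GL (Fin n) F} {τ : F ≃+* F} {k : ℕ}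
    (hk : Odd k) (hpow : semilin g τ ^ k = 1)
    (hc : ∀ h : GL (Fin n) F, IsIsom d σ h → (h : Matrix (Fin n) (Fin n) F).det = 1 →
      innDiag n F h * semilin g τ = semilin g τ * innDiag n F h) :
    τ = RingEquiv.refl F := by
  have hfixed : ∀ a : F, σ a = a → τ a = a := fun a =>
    odd_cent_sub hn H h2 ⊤ (fun _ => Subfield.mem_top _) (fun _ _ => Subfield.mem_top _) hij hk hpow
      (fun h h1 h3 _ => hc h h1 h3) a (Subfield.mem_top a)
  have hroot : ∀ x : F, τ x = x ∨ τ x = σ x := by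
    intro x
    have hS := hfixed (x + σ x) (by rw [map_add, H.invol, add_comm])
    have hP := hfixed (x * σ x) (by rw [map_mul, H.invol, mul_comm])
    rw [map_add] at hS
    rw [map_mul] at hP
    have h0 : (τ x - x) * (τ x - σ x) = 0 := by linear_combination τ x * hS - hP
    rcases mul_eq_zero.1 h0 with h | h
    · exact Or.inl (sub_eq_zero.1 h)
    · exact Or.inr (sub_eq_zero.1 h)
  have hsq : τ * τ = 1 := RingEquiv.ext fun x => by
    show τ (τ x) = x
    rcases hroot x with h | h
    · rw [h, h]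
    · rw [h]
      have hS := hfixed (x + σ x) (by rw [map_add, H.invol, add_comm])
      rw [map_add, h] at hS
      linear_combination hS
  obtain ⟨N, -, hNp⟩ := semilin_pow g τ k
  rw [hpow, eq_comm, semilin_eq_one_iff (by omega)] at hNp
  obtain ⟨t, rfl⟩ := hk
  have hτk : τ ^ (2 * t + 1) = 1 := hNp.1
  rwa [pow_succ, pow_mul, sq, hsq, one_pow, one_mul] at hτk

theorem diag_core_bot (hn : 3 ≤ n) (h2 : (2 : F) ≠ 0) (S : GL (Fin n) F) (s : Fin n → F)
    (hS : (S : Matrix (Fin n) (Fin n) F) = Matrix.diagonal s) (H : HermData (fun i => (s i)⁻¹) σ)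
    (hij : ∃ i j l : Fin n, i ≠ j ∧ i ≠ l ∧ j ≠ l ∧ s i = s j)
    (hnormsurj : (∃ x, σ x ≠ x) → ∀ μ, σ μ = μ → ∃ x, x * σ x = μ)
    (A : Subgroup (MulAut (PSL n F))) (hA : Cfsg.Inn (PSL n F) ≤ A) :
    Cfsg.pPrimeCore 2 ↥(A ⊓ Subgroup.centralizer {mkAut S σ true}) = ⊥ := by
  haveI : Finite (MulAut (PSL n F)) :=
    Finite.of_injective (fun a => (a : PSL n F → PSL n F)) DFunLike.coe_injective
  have hn2 : 2 ≤ n := by omega
  set z := mkAut S σ true
  set Z := A ⊓ Subgroup.centralizer {z} with hZ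
  set D := (innDiag n F).range ⊓ Subgroup.centralizer {z} with hD
  set L := A ⊓ D with hL
  have hdL : ∀ d' ∈ D, ∀ l ∈ L, d' * l * d'⁻¹ ∈ L := by
    intro d' hd' l hl
    obtain ⟨hlA, hlD⟩ := Subgroup.mem_inf.1 hl
    refine Subgroup.mem_inf.2 ⟨?_, mul_mem (mul_mem hd' hlD) (inv_mem hd')⟩
    obtain ⟨g, rfl⟩ := (Subgroup.mem_inf.1 hd').1
    obtain ⟨g', rfl⟩ := (Subgroup.mem_inf.1 hlD).1
    have := mul_mem (hA (innDiag_commutator_mem hn2 g g')) hlA
    rwa [inv_mul_cancel_right] at this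
  set O := (Cfsg.pPrimeCore 2 ↥L).map L.subtype with hO
  have hOnorm : ∀ d' ∈ D, ∀ o ∈ O, d' * o * d'⁻¹ ∈ O := fun d' hd' o ho =>
    core_map_norm (fun l hl => ⟨hdL d' hd' l hl, by simpa using hdL d'⁻¹ (inv_mem hd') l hl⟩) ho
  have hOD : O ≤ D := fun o ho => (Subgroup.mem_inf.1 (Subgroup.map_subtype_le _ ho)).2
  have hObot : O = ⊥ := by
    rw [eq_bot_iff]
    intro o ho
    obtain ⟨g, rfl⟩ := (Subgroup.mem_inf.1 (hOD ho)).1
    rw [Subgroup.mem_bot, innDiag_eq_one_iff hn2]
    refine scalar_of_normalized H h2 hn (M := O.comap (innDiag n F)) ?_ ?_ hnormsurj ?_ ho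
    · intro h hh m hm
      show innDiag n F (h * m * h⁻¹) ∈ O
      rw [map_mul, map_mul, map_inv]
      exact hOnorm _ (Subgroup.mem_inf.2 ⟨⟨h, rfl⟩, Subgroup.mem_centralizer_singleton_iff.2
        (diag_comm_of_isom hn H hS hh)⟩) _ hm
    · intro m hm hsq
      rw [← innDiag_eq_one_iff hn2] at hsq ⊢
      exact eq_one_of_sq_of_mem (core_map_card L) hm (by rwa [← map_mul])
    · intro m hm
      exact sim_of_comm hn H hS (Subgroup.mem_centralizer_singleton_iff.1
        (Subgroup.mem_inf.1 (hOD hm)).2)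
  rw [← core_map_bot_iff]
  set N := (Cfsg.pPrimeCore 2 ↥Z).map Z.subtype with hN
  have hNZ : N ≤ Z := Subgroup.map_subtype_le _
  have hLZ : L ≤ Z := fun l hl =>
    Subgroup.mem_inf.2 ⟨(Subgroup.mem_inf.1 hl).1, (Subgroup.mem_inf.1 (Subgroup.mem_inf.1 hl).2).2⟩
  haveI hnor : ((innDiag n F).range).Normal := inndiag_normal hn2
  have hND : ∀ y ∈ N, y ∈ D → y = 1 := by
    intro y hy hyD
    have h1 : N ⊓ L ≤ O := le_core_map inf_le_right (fun l hl m hm => Subgroup.mem_inf.2
      ⟨core_map_conj_mem Z (hLZ hl) hm.1, mul_mem (mul_mem hl hm.2) (inv_mem hl)⟩)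
      ((core_map_card Z).coprime_dvd_left (Subgroup.card_dvd_of_le inf_le_left))
    have := h1 (Subgroup.mem_inf.2 ⟨hy, Subgroup.mem_inf.2 ⟨(Subgroup.mem_inf.1 (hNZ hy)).1, hyD⟩⟩)
    rwa [hObot, Subgroup.mem_bot] at this
  rw [eq_bot_iff]
  intro y hy
  rw [Subgroup.mem_bot]
  obtain ⟨k, hk, hk1⟩ := odd_pow_eq_one (core_map_card Z) hy
  obtain ⟨g, τ, rfl, -⟩ := eq_semilin_of_odd hn2 hk hk1
  obtain ⟨i, j, l, h1, h3, h4, h5⟩ := hij
  have hτ : τ = RingEquiv.refl F := by
    refine odd_cent hn H h2 ⟨i, j, l, h1, h3, h4, congrArg Inv.inv h5⟩ hk hk1 fun h hh hdet => ?_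
    set c := innDiag n F h
    set y := semilin g τ
    have hcD : c ∈ D := Subgroup.mem_inf.2 ⟨⟨h, rfl⟩, Subgroup.mem_centralizer_singleton_iff.2
      (diag_comm_of_isom hn H hS hh)⟩
    have hcI : c ∈ Cfsg.Inn (PSL n F) := innDiag_mem_inn hn2 hdet
    have hcZ : c ∈ Z := Subgroup.mem_inf.2 ⟨hA hcI, (Subgroup.mem_inf.1 hcD).2⟩
    have h6 : c * y * c⁻¹ * y⁻¹ = 1 := by
      refine hND _ (mul_mem (core_map_conj_mem Z hcZ hy) (inv_mem hy)) (Subgroup.mem_inf.2 ⟨?_, ?_⟩)
      · have := mul_mem (inn_le_inndiag hcI) (hnor.conj_mem _ (inv_mem (inn_le_inndiag hcI)) y)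
        rwa [show c * (y * c⁻¹ * y⁻¹) = c * y * c⁻¹ * y⁻¹ by group] at this
      · exact mul_mem (mul_mem (mul_mem (Subgroup.mem_inf.1 hcZ).2 (Subgroup.mem_inf.1 (hNZ hy)).2)
          (inv_mem (Subgroup.mem_inf.1 hcZ).2)) (inv_mem (Subgroup.mem_inf.1 (hNZ hy)).2)
    calc c * y = c * y * c⁻¹ * y⁻¹ * (y * c) := by group
      _ = y * c := by rw [h6, one_mul]
  subst hτ
  exact hND _ hy (Subgroup.mem_inf.2 ⟨⟨g, rfl⟩, (Subgroup.mem_inf.1 (hNZ hy)).2⟩)

end CfsgLib.Known.BalancePSL
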