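import Cfsg.Agent.Lib.Known.BalancePSL.Field
import Cfsg.Agent.Lib.Known.BalancePSL.GraphDiag
import Cfsg.Agent.Lib.Known.BalancePSL.GraphAlt
import Cfsg.Prelude.Def_StandardType

/-!
# Local balance for non inner-diagonal automorphisms of `PSL n F` (owner: helper8)
-/

set_option autoImplicit false

open Matrix

namespace CfsgLib.Known.BalancePSL

open CfsgLib.Known.AutPSL CfsgLib.Known.AutPSL.Graph

variable {n : ℕ} {F : Type*} [Field F] [Fintype F]

theorem graph_core_bot (hn : 3 ≤ n) (h2 : (2 : F) ≠ 0) (g : GL (Fin n) F)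
    (hx : graphAut g * graphAut g = 1) (A : Subgroup (MulAut (PSL n F))) (hA : Cfsg.Inn (PSL n F) ≤ A) :
    Cfsg.pPrimeCore 2 ↥(A ⊓ Subgroup.centralizer {graphAut g}) = ⊥ := by
  classical
  rcases (graphAut_sq_iff hn g).1 hx with hs | hs
  · set last : Fin n := ⟨n - 1, by omega⟩ with hlast
    set δ := (g : Matrix (Fin n) (Fin n) F).det with hδ
    have hδ0 : δ ≠ 0 := (GeneralLinearGroup.det g).ne_zero
    set s : Fin n → F := fun i => if i = last then δ else 1 with hsdef
    have hs0 : ∀ i, s i ≠ 0 := fun i => by simp only [hsdef]; split_ifs <;> simp [hδ0]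
    let B : GL (Fin n) F := GeneralLinearGroup.mkOfDetNeZero (Matrix.diagonal s)
      (by rw [det_diagonal]; exact Finset.prod_ne_zero_iff.2 fun i _ => hs0 i)
    have hBdet : (B : Matrix (Fin n) (Fin n) F).det = δ := by
      show (Matrix.diagonal s).det = δ
      rw [det_diagonal, hsdef, Finset.prod_ite_eq' Finset.univ last (fun _ => δ)]
      simp
    obtain ⟨k, -, hk⟩ := isConjUnder_of_simForm hn (simForm_symm_of_det h2 (by omega) g B hs
      (Matrix.diagonal_transpose s) ⟨δ, by rw [hBdet]⟩)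
    refine core_bot_of_conj hk.symm (fun A' hA' => ?_) A hA
    rw [graphAut_eq_mkAut]
    refine diag_core_bot hn h2 B s rfl ⟨fun a => rfl, fun i => inv_ne_zero (hs0 i), fun i => rfl⟩ ?_
      (fun ⟨x, hx⟩ => absurd rfl hx) A' hA'
    refine ⟨⟨0, by omega⟩, ⟨1, by omega⟩, last, by simp, by simp [hlast, Fin.ext_iff]; omega,
      by simp [hlast, Fin.ext_iff]; omega, ?_⟩
    simp only [hsdef, hlast, Fin.ext_iff]
    rw [if_neg (by omega), if_neg (by omega)]
  · have halt := isAlt_of_skew h2 hs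
    obtain ⟨m, hm⟩ := even_of_isAlt g halt
    let e : Fin m ⊕ Fin m ≃ Fin n := finSumFinEquiv.trans (finCongr hm.symm)
    obtain ⟨B, hB⟩ := exists_reindexed (F := F) e (A := Matrix.J (Fin m) F)
      (Matrix.isUnit_det_J (Fin m) F).ne_zero
    obtain ⟨k, -, hk⟩ := isConjUnder_of_simForm hn (simForm_alt g B halt
      (by rw [hB]; exact isAltMat_submatrix e.symm (isAltMat_J m)))
    exact core_bot_of_conj hk.symm (fun A' hA' => alt_core_bot e hn (by omega) h2 B hB A' hA') A hA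

theorem graphField_core_bot (hn : 3 ≤ n) (h2 : (2 : F) ≠ 0) {σ : F ≃+* F} (hσ : orderOf σ = 2)
    (g : GL (Fin n) F) (hx : mkAut g σ true * mkAut g σ true = 1)
    (A : Subgroup (MulAut (PSL n F))) (hA : Cfsg.Inn (PSL n F) ≤ A) :
    Cfsg.pPrimeCore 2 ↥(A ⊓ Subgroup.centralizer {mkAut g σ true}) = ⊥ := by
  have he : innDiag n F g * (fieldHom n F σ * iota) = mkAut g σ true := by
    rw [mkAut_true, ← mul_assoc, fieldHom_apply, ← semilin_split]
  obtain ⟨k, -, hk⟩ := graphField_coset hn hσ g (by rw [he, sq, hx])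
  rw [he] at hk
  refine core_bot_of_conj hk.symm (fun A' hA' => ?_) A hA
  rw [graphField_eq_mkAut]
  have hinv : ∀ a, σ (σ a) = a := fun a =>
    RingEquiv.congr_fun (show σ * σ = 1 by rw [← sq, ← hσ, pow_orderOf_eq_one]) a
  refine diag_core_bot hn h2 1 (fun _ => 1) (by simp) ⟨hinv, fun i => by simp, fun i => by simp⟩
    ⟨⟨0, by omega⟩, ⟨1, by omega⟩, ⟨2, by omega⟩, by simp, by simp, by simp, rfl⟩ (fun hne μ hμ => ?_) A' hA'
  have hI : CfsgLib.Classical.Herm.IsInvol σ.toRingHom :=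
    ⟨fun h => by
      obtain ⟨x, hx⟩ := hne
      exact hx (RingHom.congr_fun h x), hinv⟩
  exact hI.exists_norm_eq hμ

theorem balance_criterion (hn : 2 ≤ n) {p r : ℕ} [hp : Fact p.Prime] [hr : Fact r.Prime] [CharP F r]
    (hpr : p ≠ r) (A : Subgroup (MulAut (PSL n F))) (hinn : ∀ k : PSL n F, MulAut.conj k ∈ A)
    (x : MulAut (PSL n F)) (hord : orderOf x = p) (hnot : ¬ Cfsg.IsInnerDiagonalAutPSL x) :
    Cfsg.pPrimeCore p ↥(A ⊓ Subgroup.centralizer {x}) ≠ ⊥ ↔
      ((∃ γ φ : MulAut (PSL n F), Cfsg.IsInnerDiagonalAutPSL γ ∧ Cfsg.IsFieldAutPSL φ ∧ x = φ.trans γ) ∧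
        Nat.Coprime p (Nat.card ↥(MonoidHom.eqLocus x.toMonoidHom (MonoidHom.id (PSL n F))))) := by
  classical
  obtain ⟨f, -, hF⟩ := FiniteField.card F r
  have hA : Cfsg.Inn (PSL n F) ≤ A := by
    rintro _ ⟨k, rfl⟩
    exact hinn k
  obtain ⟨g, σ, e, rfl, he⟩ := exists_mkAut hn x
  have hxp : mkAut g σ e ^ p = 1 := hord ▸ pow_orderOf_eq_one _
  cases e with
  | false =>
    rw [mkAut_false] at hord hnot hxp ⊢
    have hσ1 : σ ≠ 1 := fun h1 =>
      hnot ((isInnerDiagonalAutPSL_iff _).2 ⟨g, by rw [h1]; rfl⟩)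
    have hσ : orderOf σ = p := by
      refine orderOf_eq_prime ?_ hσ1
      obtain ⟨N, -, hN⟩ := semilin_pow g σ p
      rw [hN, semilin_eq_one_iff hn] at hxp
      exact hxp.1
    obtain ⟨k, -, hk⟩ := field_coset hn σ hp.out ((orderOf_fieldHom hn σ).trans hσ) g (by
      rw [fieldHom_apply, ← semilin_split]; exact hord)
    rw [fieldHom_apply, ← semilin_split, ← fieldHom_apply] at hk
    have hfield : ∃ γ φ : MulAut (PSL n F), Cfsg.IsInnerDiagonalAutPSL γ ∧ Cfsg.IsFieldAutPSL φ ∧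
        semilin g σ = φ.trans γ :=
      ⟨innDiag n F g, fieldHom n F σ, (isInnerDiagonalAutPSL_iff _).2 ⟨g, rfl⟩,
        ⟨σ, (isStdFieldAutPSL_iff σ _).2 rfl⟩, semilin_split g σ⟩
    rw [and_iff_right hfield]
    exact Balance.criterion_of_conj (center_psl_bot hn) hk.symm hord
      (field_data σ hn hpr hF f.pos hσ) A hinn
  | true =>
    have h3 : 3 ≤ n := Nat.lt_of_le_of_ne hn fun h => by simpa using he h.symm
    have hnf : ¬ ∃ γ φ : MulAut (PSL n F), Cfsg.IsInnerDiagonalAutPSL γ ∧ Cfsg.IsFieldAutPSL φ ∧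
        mkAut g σ true = φ.trans γ := by
      rintro ⟨γ, φ, hγ, ⟨σ', hφ⟩, heq⟩
      obtain ⟨h, rfl⟩ := (isInnerDiagonalAutPSL_iff _).1 hγ
      rw [(isStdFieldAutPSL_iff σ' φ).1 hφ] at heq
      have : mkAut g σ true = mkAut h σ' false := by
        rw [heq, mkAut_false, semilin_split h σ']
        rfl
      exact Bool.noConfusion ((mkAut_eq_iff hn fun h => absurd h (by omega)).1 this).2.1
    simp only [hnf, false_and, iff_false, not_not]
    obtain rfl : p = 2 := by
      rcases hp.out.eq_two_or_odd' with h | h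
      · exact h
      exfalso
      obtain ⟨g', τ, heq, -⟩ := eq_semilin_of_odd hn h hxp
      rw [← mkAut_false] at heq
      exact Bool.noConfusion ((mkAut_eq_iff hn fun h => absurd h (by omega)).1 heq).2.1
    have h2 : (2 : F) ≠ 0 := fun h0 => hpr
      ((Nat.prime_dvd_prime_iff_eq hr.out Nat.prime_two).1
        ((CharP.cast_eq_zero_iff F r 2).1 (by simpa using h0))).symm
    rw [sq] at hxp
    rcases eq_or_ne σ 1 with h1 | h1
    · subst h1
      have e1 : mkAut g (1 : F ≃+* F) true = graphAut g := (graphAut_eq_mkAut g).symm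
      rw [e1] at hxp ⊢
      exact graph_core_bot h3 h2 g hxp A hA
    · have hσ : orderOf σ = 2 := by
        refine orderOf_eq_prime ?_ h1
        have h4 := hxp
        rw [mkAut_mul, Bool.xor_self, mkAut_false, semilin_eq_one_iff hn] at h4
        rw [sq]
        exact h4.1
      exact graphField_core_bot h3 h2 hσ g hxp A hA

end CfsgLib.Known.BalancePSL
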