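import Cfsg.Agent.Lib.Known.AutPSL.Main
import Mathlib.FieldTheory.Finite.Basic

/-!
# Groups of similitudes normalised by all reflections (owner: helper8)

A group of similitudes of a diagonal hermitian or symmetric form (`n ≥ 3`, odd characteristic)
which is normalised by the isometries and has no projective involution consists of scalars.
-/

set_option autoImplicit false

open Matrix

namespace CfsgLib.Known.BalancePSL

open CfsgLib.Known.AutPSL (bv)

variable {n : ℕ} {F : Type*} [Field F]

theorem mat_eq_of_mulVec {A B : Matrix (Fin n) (Fin n) F} (h : ∀ x, A *ᵥ x = B *ᵥ x) : A = B :=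
  Matrix.ext fun i j => by simpa using congrFun (h (Pi.single j 1)) i

/-- The diagonal `σ`-sesquilinear form. -/
def herm (d : Fin n → F) (σ : F ≃+* F) (u v : Fin n → F) : F := ∑ i, d i * u i * σ (v i)

/-- `σ` is an involution (or trivial) fixing the nonzero coefficients. -/
structure HermData (d : Fin n → F) (σ : F ≃+* F) : Prop where
  /-- involution -/
  invol : ∀ a, σ (σ a) = a
  /-- nondegenerate -/
  ne0 : ∀ i, d i ≠ 0
  /-- symmetric -/
  fix : ∀ i, σ (d i) = d i

variable {d : Fin n → F} {σ : F ≃+* F}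

local notation "Bd" => herm d σ

theorem herm_add_left (u u' v : Fin n → F) : Bd (u + u') v = Bd u v + Bd u' v := by
  simp [herm, mul_add, add_mul, Finset.sum_add_distrib]

theorem herm_sub_left (u u' v : Fin n → F) : Bd (u - u') v = Bd u v - Bd u' v := by
  simp [herm, mul_sub, sub_mul, Finset.sum_sub_distrib]

theorem herm_smul_left (k : F) (u v : Fin n → F) : Bd (k • u) v = k * Bd u v := by
  simp only [herm, Finset.mul_sum, Pi.smul_apply, smul_eq_mul]
  exact Finset.sum_congr rfl fun i _ => by ring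

theorem herm_add_right (u v v' : Fin n → F) : Bd u (v + v') = Bd u v + Bd u v' := by
  simp [herm, mul_add, Finset.sum_add_distrib]

theorem herm_sub_right (u v v' : Fin n → F) : Bd u (v - v') = Bd u v - Bd u v' := by
  simp [herm, mul_sub, Finset.sum_sub_distrib]

theorem herm_smul_right (k : F) (u v : Fin n → F) : Bd u (k • v) = σ k * Bd u v := by
  simp only [herm, Finset.mul_sum, Pi.smul_apply, smul_eq_mul, map_mul]
  exact Finset.sum_congr rfl fun i _ => by ring

theorem herm_bv_right (u : Fin n → F) (i : Fin n) : Bd u (bv i) = d i * u i := by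
  simp [herm, AutPSL.bv, Pi.single_apply, apply_ite σ]

theorem herm_symm (H : HermData d σ) (u v : Fin n → F) : σ (Bd u v) = Bd v u := by
  simp only [herm, map_sum, map_mul, H.invol, H.fix]
  exact Finset.sum_congr rfl fun i _ => by ring

theorem herm_eq_zero_symm (H : HermData d σ) {u v : Fin n → F} (h : Bd u v = 0) : Bd v u = 0 := by
  rw [← herm_symm H, h, map_zero]

theorem herm_nondeg (H : HermData d σ) {u : Fin n → F} (h : ∀ v, Bd u v = 0) : u = 0 :=
  funext fun i => (mul_eq_zero.1 ((herm_bv_right u i).symm.trans (h (bv i)))).resolve_left (H.ne0 i)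

theorem herm_ne_zero_exists (H : HermData d σ) {w : Fin n → F} (hw : w ≠ 0) : ∃ x, Bd x w ≠ 0 := by
  by_contra hcon
  push Not at hcon
  exact hw (herm_nondeg H fun v => herm_eq_zero_symm H (hcon v))

/-- Similitudes. -/
def IsSim (d : Fin n → F) (σ : F ≃+* F) (g : GL (Fin n) F) : Prop :=
  ∃ c : F, ∀ u v, herm d σ ((g : Matrix (Fin n) (Fin n) F) *ᵥ u) ((g : Matrix (Fin n) (Fin n) F) *ᵥ v) =
    c * herm d σ u v

/-- Isometries. -/
def IsIsom (d : Fin n → F) (σ : F ≃+* F) (g : GL (Fin n) F) : Prop :=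
  ∀ u v, herm d σ ((g : Matrix (Fin n) (Fin n) F) *ᵥ u) ((g : Matrix (Fin n) (Fin n) F) *ᵥ v) =
    herm d σ u v

theorem IsIsom.isSim {g : GL (Fin n) F} (h : IsIsom d σ g) : IsSim d σ g :=
  ⟨1, fun u v => by rw [one_mul, h]⟩

theorem IsIsom.mul {g h : GL (Fin n) F} (hg : IsIsom d σ g) (hh : IsIsom d σ h) :
    IsIsom d σ (g * h) := fun u v => by
  rw [Units.val_mul, ← mulVec_mulVec, ← mulVec_mulVec, hg, hh]

theorem gl_mulVec_inj (g : GL (Fin n) F) {x : Fin n → F}
    (h : (g : Matrix (Fin n) (Fin n) F) *ᵥ x = 0) : x = 0 := by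
  have := congrArg (((g⁻¹ : GL (Fin n) F) : Matrix (Fin n) (Fin n) F).mulVec) h
  rwa [mulVec_mulVec, Units.inv_mul, one_mulVec, mulVec_zero] at this

theorem sim_ne_zero (H : HermData d σ) {g : GL (Fin n) F} {c : F}
    (hc : ∀ u v, Bd ((g : Matrix (Fin n) (Fin n) F) *ᵥ u) ((g : Matrix (Fin n) (Fin n) F) *ᵥ v) =
      c * Bd u v) {u : Fin n → F} (hu : u ≠ 0) : c ≠ 0 := by
  rintro rfl
  refine hu (gl_mulVec_inj g (herm_nondeg H fun v => ?_))
  have := hc u (((g⁻¹ : GL (Fin n) F) : Matrix (Fin n) (Fin n) F) *ᵥ v)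
  rwa [mulVec_mulVec v, Units.mul_inv, one_mulVec, zero_mul] at this

/-- The matrix of a reflection. -/
def reflMat (d : Fin n → F) (σ : F ≃+* F) (z : Fin n → F) : Matrix (Fin n) (Fin n) F :=
  1 - vecMulVec z (fun i => 2 / herm d σ z z * (d i * σ (z i)))

theorem reflMat_mulVec (z x : Fin n → F) :
    reflMat d σ z *ᵥ x = x - (2 * Bd x z / Bd z z) • z := by
  rw [reflMat, sub_mulVec, one_mulVec, vecMulVec_mulVec, op_smul_eq_smul]
  congr 2
  simp only [dotProduct, herm, Finset.mul_sum, Finset.sum_div]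
  exact Finset.sum_congr rfl fun i _ => by ring

theorem reflMat_mul_self {z : Fin n → F} (hz : Bd z z ≠ 0) : reflMat d σ z * reflMat d σ z = 1 := by
  refine mat_eq_of_mulVec fun x => ?_
  rw [← mulVec_mulVec, reflMat_mulVec, reflMat_mulVec, one_mulVec, herm_sub_left, herm_smul_left]
  match_scalars
  · ring
  · field_simp; ring

/-- The reflection. -/
def refl {z : Fin n → F} (hz : Bd z z ≠ 0) : GL (Fin n) F :=
  ⟨reflMat d σ z, reflMat d σ z, reflMat_mul_self hz, reflMat_mul_self hz⟩

theorem refl_mulVec {z : Fin n → F} (hz : Bd z z ≠ 0) (x : Fin n → F) :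
    (refl hz : Matrix (Fin n) (Fin n) F) *ᵥ x = x - (2 * Bd x z / Bd z z) • z := reflMat_mulVec z x

theorem refl_mul_self {z : Fin n → F} (hz : Bd z z ≠ 0) : refl hz * refl hz = 1 :=
  Units.ext (reflMat_mul_self hz)

theorem refl_inv {z : Fin n → F} (hz : Bd z z ≠ 0) : (refl hz)⁻¹ = refl hz :=
  inv_eq_of_mul_eq_one_left (refl_mul_self hz)

theorem refl_self {z : Fin n → F} (hz : Bd z z ≠ 0) : (refl hz : Matrix (Fin n) (Fin n) F) *ᵥ z = -z := by
  rw [refl_mulVec, mul_div_assoc, div_self hz, mul_one, two_smul, sub_add_cancel_left]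

theorem refl_fix {z x : Fin n → F} (hz : Bd z z ≠ 0) (h : Bd x z = 0) :
    (refl hz : Matrix (Fin n) (Fin n) F) *ᵥ x = x := by
  rw [refl_mulVec, h, mul_zero, zero_div, zero_smul, sub_zero]

theorem refl_isom (H : HermData d σ) {z : Fin n → F} (hz : Bd z z ≠ 0) : IsIsom d σ (refl hz) := by
  intro u v
  rw [refl_mulVec, refl_mulVec, herm_sub_left, herm_sub_right, herm_sub_right, herm_smul_left,
    herm_smul_left, herm_smul_right, herm_smul_right, map_div₀, map_mul, herm_symm H v z,
    herm_symm H z z, map_ofNat]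
  field_simp
  ring

theorem conj_refl (H : HermData d σ) {g : GL (Fin n) F} (hg : IsSim d σ g) {z z' : Fin n → F}
    (hz : Bd z z ≠ 0) (hz' : Bd z' z' ≠ 0) (h : (g : Matrix (Fin n) (Fin n) F) *ᵥ z = z') :
    g * refl hz * g⁻¹ = refl hz' := by
  subst h
  obtain ⟨c, hc⟩ := hg
  have hc0 : c ≠ 0 := sim_ne_zero H hc (u := z) fun h0 => hz (by simp [h0, herm])
  rw [mul_inv_eq_iff_eq_mul]
  refine Units.ext (mat_eq_of_mulVec fun x => ?_)
  rw [Units.val_mul, Units.val_mul, ← mulVec_mulVec, ← mulVec_mulVec, refl_mulVec, refl_mulVec,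
    mulVec_sub, mulVec_smul, hc, hc]
  congr 2
  field_simp

theorem refl_congr_neg {z : Fin n → F} (hz : Bd z z ≠ 0) (hz' : Bd (-z) (-z) ≠ 0) :
    refl hz' = refl hz := by
  refine Units.ext (mat_eq_of_mulVec fun x => ?_)
  have e : Bd x (-z) = -Bd x z := by
    rw [← neg_one_smul F z, herm_smul_right, map_neg, map_one, neg_one_mul]
  have e' : Bd (-z) (-z) = Bd z z := by
    rw [← neg_one_smul F z, herm_smul_right, herm_smul_left, map_neg, map_one]; ring
  rw [refl_mulVec, refl_mulVec, e, e', smul_neg, ← neg_smul]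
  congr 2
  ring

theorem exists_perp (hn : 3 ≤ n) {u w : Fin n → F} (hu : Bd u u ≠ 0) (hw : Bd w w ≠ 0)
    (H : HermData d σ) (huw : Bd w u = 0) : ∃ y, y ≠ 0 ∧ Bd y u = 0 ∧ Bd y w = 0 := by
  have hlt : (Submodule.span F ({u, w} : Set (Fin n → F))) ≠ ⊤ := by
    intro h
    classical
    have h1 := finrank_span_finset_le_card (R := F) ({u, w} : Finset (Fin n → F))
    rw [Set.finrank, Finset.coe_pair, h, finrank_top, Module.finrank_fin_fun] at h1
    have := Finset.card_le_two (a := u) (b := w)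
    omega
  obtain ⟨x, -, hx⟩ := SetLike.exists_of_lt hlt.lt_top
  refine ⟨x - (Bd x u / Bd u u) • u - (Bd x w / Bd w w) • w, fun h0 => hx ?_, ?_, ?_⟩
  · rw [sub_sub, sub_eq_zero] at h0
    rw [h0]
    exact add_mem (Submodule.smul_mem _ _ (Submodule.subset_span (by simp)))
      (Submodule.smul_mem _ _ (Submodule.subset_span (by simp)))
  · rw [herm_sub_left, herm_sub_left, herm_smul_left, herm_smul_left, huw, div_mul_cancel₀ _ hu]
    ring
  · rw [herm_sub_left, herm_sub_left, herm_smul_left, herm_smul_left, herm_eq_zero_symm H huw,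
      div_mul_cancel₀ _ hw]
    ring

theorem exists_perp_aniso (h2 : (2 : F) ≠ 0) (hn : 3 ≤ n) (H : HermData d σ) {u w : Fin n → F}
    (hu : Bd u u ≠ 0) (hw : Bd w w ≠ 0) (huw : Bd w u = 0) :
    ∃ y, Bd y y ≠ 0 ∧ Bd y u = 0 ∧ Bd y w = 0 := by
  by_contra hcon
  push Not at hcon
  obtain ⟨y, hy0, hyu, hyw⟩ := exists_perp hn hu hw H huw
  refine hy0 (herm_nondeg H fun x => ?_)
  set x' := x - (Bd x u / Bd u u) • u - (Bd x w / Bd w w) • w with hx'
  have hxu : Bd x' u = 0 := by
    rw [hx', herm_sub_left, herm_sub_left, herm_smul_left, herm_smul_left, huw, div_mul_cancel₀ _ hu]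
    ring
  have hxw : Bd x' w = 0 := by
    rw [hx', herm_sub_left, herm_sub_left, herm_smul_left, herm_smul_left, herm_eq_zero_symm H huw,
      div_mul_cancel₀ _ hw]
    ring
  have hQ : ∀ z, Bd z u = 0 → Bd z w = 0 → Bd z z = 0 := fun z h1 h3 => by
    by_contra h
    exact hcon z h h1 h3
  set k := Bd x' y
  have h1 := hQ (x' + k • y) (by rw [herm_add_left, herm_smul_left, hxu, hyu]; ring)
    (by rw [herm_add_left, herm_smul_left, hxw, hyw]; ring)
  have hk : σ k = Bd y x' := herm_symm H x' y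
  rw [herm_add_left, herm_add_right, herm_add_right, herm_smul_left, herm_smul_left, herm_smul_right,
    herm_smul_right, hQ x' hxu hxw, hQ y hyu hyw, show Bd x' y = k from rfl, ← hk] at h1
  have h3 : (2 : F) * (k * σ k) = 0 := by linear_combination h1
  have h4 : Bd y x' = 0 := by
    rw [← hk]
    rcases mul_eq_zero.1 h3 with h | h
    · exact absurd h h2
    · rcases mul_eq_zero.1 h with h | h
      · rw [h, map_zero]
      · exact h
  rw [hx', herm_sub_right, herm_sub_right, herm_smul_right, herm_smul_right, hyu, hyw] at h4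
  linear_combination h4

theorem exists_binary [Fintype F] (h2 : (2 : F) ≠ 0) {A B : F} (hA : A ≠ 0) (hB : B ≠ 0) (c : F) :
    ∃ a b : F, A * a ^ 2 + B * b ^ 2 = c := by
  obtain ⟨a, b, hab⟩ := FiniteField.exists_root_sum_quadratic (R := F)
    (f := Polynomial.C A * Polynomial.X ^ 2) (g := Polynomial.C B * Polynomial.X ^ 2 - Polynomial.C c)
    (Polynomial.degree_C_mul_X_pow 2 hA) (by
      rw [Polynomial.degree_sub_C (by rw [Polynomial.degree_C_mul_X_pow 2 hB]; norm_num),
        Polynomial.degree_C_mul_X_pow 2 hB]; rfl)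
    (FiniteField.odd_card_of_char_ne_two fun hch => h2 (by
      have := CharP.cast_eq_zero F (ringChar F)
      rw [hch] at this
      exact_mod_cast this))
  refine ⟨a, b, ?_⟩
  simp only [Polynomial.eval_mul, Polynomial.eval_pow, Polynomial.eval_X, Polynomial.eval_sub,
    Polynomial.eval_C] at hab
  linear_combination hab

section Main

variable (H : HermData d σ) (h2 : (2 : F) ≠ 0) (hn : 3 ≤ n) {M : Subgroup (GL (Fin n) F)}
  (hnorm : ∀ h, IsIsom d σ h → ∀ g ∈ M, h * g * h⁻¹ ∈ M)
  (hodd : ∀ g ∈ M, (∃ c : F, ((g * g : GL (Fin n) F) : Matrix (Fin n) (Fin n) F) = c • 1) →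
    ∃ c : F, (g : Matrix (Fin n) (Fin n) F) = c • 1)

include H h2 hn hodd in
theorem orth_not_mem {u v : Fin n → F} (hu : Bd u u ≠ 0) (hv : Bd v v ≠ 0) (h : Bd v u = 0) :
    refl hv * refl hu ∉ M := by
  intro hM
  have hc : refl hv * refl hu * (refl hv * refl hu) = 1 := by
    have e : refl hv * refl hu = refl hu * refl hv := by
      have := conj_refl H (refl_isom H hv).isSim hu hu (refl_fix hv (herm_eq_zero_symm H h))
      rwa [mul_inv_eq_iff_eq_mul] at this
    rw [show refl hv * refl hu * (refl hv * refl hu) = refl hv * (refl hu * refl hv) * refl hu by group,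
      ← e, ← mul_assoc, refl_mul_self, one_mul, refl_mul_self]
  obtain ⟨c, hcc⟩ := hodd _ hM ⟨1, by rw [hc, Units.val_one, one_smul]⟩
  obtain ⟨y, hy, hyu, hyv⟩ := exists_perp hn hu hv H h
  have e1 := congrArg (fun A : Matrix (Fin n) (Fin n) F => A *ᵥ y) hcc
  have e2 := congrArg (fun A : Matrix (Fin n) (Fin n) F => A *ᵥ u) hcc
  simp only [Units.val_mul, ← mulVec_mulVec, smul_mulVec, one_mulVec] at e1 e2
  rw [refl_fix hu hyu, refl_fix hv hyv] at e1
  rw [refl_self hu, mulVec_neg, refl_fix hv (herm_eq_zero_symm H h)] at e2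
  obtain ⟨i, hi⟩ := Function.ne_iff.1 hy
  have hu0 : u ≠ 0 := fun h0 => hu (by simp [h0, herm])
  obtain ⟨j, hj⟩ := Function.ne_iff.1 hu0
  have a1 : c = 1 := by
    have := congrFun e1 i
    simp only [Pi.smul_apply, smul_eq_mul] at this
    exact (mul_left_eq_self₀.1 this.symm).resolve_right hi
  subst a1
  have := congrFun e2 j
  simp only [one_smul, Pi.neg_apply] at this
  exact hj ((mul_eq_zero.1 (show (2 : F) * u j = 0 by linear_combination -this)).resolve_left h2)

include H h2 hn hnorm hodd in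
theorem no_z {u v w z : Fin n → F} {a l : F} (hu : Bd u u ≠ 0) (hv : Bd v v ≠ 0)
    (hM : refl hv * refl hu ∈ M) (hvw : v = a • u + w) (hwu : Bd w u = 0) (hl : l = 1 ∨ l = -1)
    (hzu : Bd z u = 0) (hz : Bd z z ≠ 0) :
    2 * (Bd w z * σ (Bd w z)) ≠ (Bd w w + l * (a * σ a) * Bd u u) * Bd z z := by
  intro heq
  have huw := herm_eq_zero_symm H hwu
  have huz := herm_eq_zero_symm H hzu
  have key : ∀ h : GL (Fin n) F, IsIsom d σ h →
      ((h : Matrix (Fin n) (Fin n) F) *ᵥ u = u ∨ (h : Matrix (Fin n) (Fin n) F) *ᵥ u = -u) →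
      Bd ((h : Matrix (Fin n) (Fin n) F) *ᵥ v) v ≠ 0 := by
    intro h hh hhu horth
    have hv' : Bd ((h : Matrix (Fin n) (Fin n) F) *ᵥ v) ((h : Matrix (Fin n) (Fin n) F) *ᵥ v) ≠ 0 := by
      rwa [hh]
    refine orth_not_mem H h2 hn hodd hv hv' horth ?_
    have e1 : h * refl hu * h⁻¹ = refl hu := by
      rcases hhu with e | e
      · exact conj_refl H hh.isSim hu hu e
      · have hu' : Bd (-u) (-u) ≠ 0 := by rw [← e, hh]; exact hu
        rw [conj_refl H hh.isSim hu hu' e, refl_congr_neg hu hu']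
    have h1 := mul_mem (hnorm h hh _ hM) (inv_mem hM)
    rw [show h * (refl hv * refl hu) * h⁻¹ = (h * refl hv * h⁻¹) * (h * refl hu * h⁻¹) by group, e1,
      conj_refl H hh.isSim hv hv' rfl, _root_.mul_inv_rev, refl_inv, refl_inv,
      mul_assoc, ← mul_assoc (refl hu) (refl hu), refl_mul_self, one_mul] at h1
    exact h1
  have hBzw : Bd z w = σ (Bd w z) := (herm_symm H w z).symm
  rcases hl with rfl | rfl
  · refine key (refl hz) (refl_isom H hz) (Or.inl (refl_fix hz huz)) ?_
    rw [refl_mulVec, hvw]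
    simp only [herm_sub_left, herm_add_left, herm_smul_left, herm_add_right, herm_smul_right,
      huw, hwu, hzu, huz, hBzw]
    field_simp
    linear_combination -heq
  · refine key (refl hz * refl hu) ((refl_isom H hz).mul (refl_isom H hu)) (Or.inr ?_) ?_
    · rw [Units.val_mul, ← mulVec_mulVec, refl_self, mulVec_neg, refl_fix hz huz]
    · rw [Units.val_mul, ← mulVec_mulVec, hvw, mulVec_add (refl hu : Matrix (Fin n) (Fin n) F),
        mulVec_smul, refl_self, refl_fix hu hwu, refl_mulVec, smul_neg, ← neg_smul]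
      simp only [herm_sub_left, herm_add_left, herm_smul_left, herm_add_right, herm_smul_right,
        huw, hwu, hzu, huz, hBzw]
      field_simp
      linear_combination -heq

include H h2 hn hnorm hodd in
theorem no_y {u v w y : Fin n → F} {a : F} (hu : Bd u u ≠ 0) (hv : Bd v v ≠ 0)
    (hM : refl hv * refl hu ∈ M) (hvw : v = a • u + w) (hwu : Bd w u = 0) (hQ : Bd v v = Bd u u)
    (hw : Bd w w ≠ 0) (hyu : Bd y u = 0) (hyw : Bd y w = 0) :
    Bd y y * Bd u u ≠ Bd w w * (2 * Bd w w - Bd u u) := by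
  intro heq
  have huw := herm_eq_zero_symm H hwu
  have hwy := herm_eq_zero_symm H hyw
  have hsum : Bd u u = a * σ a * Bd u u + Bd w w := by
    conv_lhs => rw [← hQ, hvw]
    simp only [herm_add_left, herm_add_right, herm_smul_left, herm_smul_right, huw, hwu]
    ring
  have hz : Bd (w + y) (w + y) = Bd w w + Bd y y := by
    simp only [herm_add_left, herm_add_right, hwy, hyw]; ring
  have hz0 : Bd (w + y) (w + y) ≠ 0 := by
    intro h
    rw [hz] at h
    have : 2 * (Bd w w * Bd w w) = 0 := by linear_combination -heq + Bd u u * h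
    simp [h2, hw] at this
  have hwz : Bd w (w + y) = Bd w w := by rw [herm_add_right, hwy, add_zero]
  refine no_z H h2 hn hnorm hodd hu hv hM hvw hwu (Or.inl rfl)
    (z := w + y) (by rw [herm_add_left, hwu, hyu, add_zero]) hz0 ?_
  rw [hwz, herm_symm H w w, hz]
  linear_combination -heq + (Bd w w + Bd y y) * hsum

include H h2 hn hnorm hodd in
theorem pair_absurd [Fintype F] (hnormsurj : (∃ x, σ x ≠ x) → ∀ μ, σ μ = μ → ∃ x, x * σ x = μ)
    {u v w : Fin n → F} {a : F} (hu : Bd u u ≠ 0) (hv : Bd v v ≠ 0)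
    (hM : refl hv * refl hu ∈ M) (hvw : v = a • u + w) (hwu : Bd w u = 0) (hQ : Bd v v = Bd u u)
    (hw0 : w ≠ 0) : False := by
  have huw := herm_eq_zero_symm H hwu
  have hvu : Bd v u = a * Bd u u := by rw [hvw, herm_add_left, herm_smul_left, hwu, add_zero]
  have ha : a ≠ 0 := fun ha => orth_not_mem H h2 hn hodd hu hv (by rw [hvu, ha, zero_mul]) hM
  have hsum : Bd u u = a * σ a * Bd u u + Bd w w := by
    conv_lhs => rw [← hQ, hvw]
    simp only [herm_add_left, herm_add_right, herm_smul_left, herm_smul_right, huw, hwu]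
    ring
  have hfix : ∀ z, σ (Bd z z) = Bd z z := fun z => herm_symm H z z
  rcases eq_or_ne (Bd w w) 0 with hw | hw
  · obtain ⟨x, hx⟩ := herm_ne_zero_exists H hw0
    set x' := x - (Bd x u / Bd u u) • u with hx'
    have hx'u : Bd x' u = 0 := by
      rw [hx', herm_sub_left, herm_smul_left, div_mul_cancel₀ _ hu, sub_self]
    have hx'w : Bd x' w = Bd x w := by rw [hx', herm_sub_left, herm_smul_left, huw, mul_zero, sub_zero]
    set y := (Bd x w)⁻¹ • x' with hy
    have hyu : Bd y u = 0 := by rw [hy, herm_smul_left, hx'u, mul_zero]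
    have hyw : Bd y w = 1 := by rw [hy, herm_smul_left, hx'w, inv_mul_cancel₀ hx]
    have hwy : Bd w y = 1 := by rw [← herm_symm H, hyw, map_one]
    have hna : a * σ a * Bd u u ≠ 0 := mul_ne_zero (mul_ne_zero ha (by simpa using ha)) hu
    set k := (2 / (a * σ a * Bd u u) - Bd y y) / 2 with hk
    have hσk : σ k = k := by
      simp only [hk, map_div₀, map_sub, map_mul, map_ofNat, H.invol, hfix, mul_comm (σ a) a]
    have hzz : Bd (k • w + y) (k • w + y) = 2 / (a * σ a * Bd u u) := by
      simp only [herm_add_left, herm_add_right, herm_smul_left, herm_smul_right, hw, hwy, hyw, hσk]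
      rw [hk]; field_simp; ring
    have hwz : Bd w (k • w + y) = 1 := by rw [herm_add_right, herm_smul_right, hw, hwy, mul_zero, zero_add]
    refine no_z H h2 hn hnorm hodd hu hv hM hvw hwu (Or.inl rfl) (z := k • w + y)
      (by rw [herm_add_left, herm_smul_left, hwu, hyu]; ring) (by rw [hzz]; exact div_ne_zero h2 hna) ?_
    rw [hwz, hw, hzz, map_one]
    have hσa : σ a ≠ 0 := by simpa using ha
    field_simp
    ring
  · obtain ⟨y0, hy0, hy0u, hy0w⟩ := exists_perp_aniso h2 hn H hu hw hwu
    by_cases hs : ∃ x, σ x ≠ x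
    · obtain ⟨k, hk⟩ := hnormsurj hs (Bd w w * (2 * Bd w w - Bd u u) / (Bd u u * Bd y0 y0))
        (by simp only [map_div₀, map_mul, map_sub, map_ofNat, hfix])
      refine no_y H h2 hn hnorm hodd hu hv hM hvw hwu hQ hw (y := k • y0)
        (by rw [herm_smul_left, hy0u, mul_zero]) (by rw [herm_smul_left, hy0w, mul_zero]) ?_
      rw [herm_smul_left, herm_smul_right, ← mul_assoc k (σ k), hk]
      field_simp
    · push Not at hs
      rw [hs] at hsum
      set e := Bd w w / Bd u u with he
      set f := 8 * a ^ 2 * e - 1 with hf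
      have he0 : e ≠ 0 := div_ne_zero hw hu
      have hwe : Bd w w = e * Bd u u := by rw [he, div_mul_cancel₀ _ hu]
      have hae : a * a + e = 1 := by
        apply mul_right_cancel₀ hu
        linear_combination -hsum - hwe
      obtain ⟨p, q, hpq, hfpq⟩ : ∃ p q : F, p ^ 2 * Bd u u + q ^ 2 * Bd w w ≠ 0 ∧
          (f = 0 ∨ p ^ 2 * Bd u u + q ^ 2 * Bd w w = Bd y0 y0 * e * f) := by
        rcases eq_or_ne f 0 with hf0 | hf0
        · exact ⟨1, 0, by simpa using hu, Or.inl hf0⟩
        · obtain ⟨p, q, h⟩ := exists_binary h2 hu hw (Bd y0 y0 * e * f)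
          have h' : p ^ 2 * Bd u u + q ^ 2 * Bd w w = Bd y0 y0 * e * f := by linear_combination h
          exact ⟨p, q, by rw [h']; exact mul_ne_zero (mul_ne_zero hy0 he0) hf0, Or.inr h'⟩
      set x := p • u + q • w with hx
      set w2 := (2 * a * p) • w - (2 * a * q * e) • u with hw2
      have hxx : Bd x x = p ^ 2 * Bd u u + q ^ 2 * Bd w w := by
        simp only [hx, herm_add_left, herm_add_right, herm_smul_left, herm_smul_right, huw, hwu, hs]; ring
      have hx0 : Bd x x ≠ 0 := by rwa [hxx]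
      have hw2x : Bd w2 x = 0 := by
        simp only [hw2, hx, herm_sub_left, herm_add_right, herm_smul_left, herm_smul_right, huw, hwu, hs, hwe]
        ring
      have hw22 : Bd w2 w2 = 4 * a ^ 2 * e * Bd x x := by
        rw [hxx]
        simp only [hw2, herm_sub_left, herm_sub_right, herm_smul_left, herm_smul_right, huw, hwu, hs, hwe]
        ring
      have htx : ((refl hv * refl hu : GL (Fin n) F) : Matrix (Fin n) (Fin n) F) *ᵥ x =
          (2 * a * a - 1) • x + w2 := by
        rw [Units.val_mul, ← mulVec_mulVec, hx, mulVec_add (refl hu : Matrix (Fin n) (Fin n) F),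
          mulVec_smul, mulVec_smul, refl_self, refl_fix hu hwu, refl_mulVec, hQ,
          show Bd (p • -u + q • w) v = (-p * a + q * e) * Bd u u by
            rw [hvw, ← neg_one_smul F u]
            simp only [herm_add_left, herm_add_right, herm_smul_left, herm_smul_right, huw, hwu, hs, hwe]
            ring,
          ← mul_assoc, mul_div_assoc, div_self hu, mul_one, hvw, hw2]
        match_scalars
        · linear_combination (-2 * q * a + 2 * q * a) * hae
        · linear_combination (-2 * q) * hae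
      set t := refl hv * refl hu
      have ht : IsIsom d σ t := (refl_isom H hv).mul (refl_isom H hu)
      have hv2 : Bd ((t : Matrix (Fin n) (Fin n) F) *ᵥ x) ((t : Matrix (Fin n) (Fin n) F) *ᵥ x) ≠ 0 := by
        rwa [ht]
      have hM2 : refl hv2 * refl hx0 ∈ M := by
        have h1 := mul_mem hM (hnorm (refl hx0) (refl_isom H hx0) t⁻¹ (inv_mem hM))
        rwa [refl_inv, show t * (refl hx0 * t⁻¹ * refl hx0) = (t * refl hx0 * t⁻¹) * refl hx0 by group,
          conj_refl H ht.isSim hx0 hv2 rfl] at h1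
      refine no_y H h2 hn hnorm hodd hx0 hv2 hM2 htx hw2x (ht _ _) (by
          rw [hw22]; exact mul_ne_zero (mul_ne_zero (mul_ne_zero (by
            rw [show (4 : F) = 2 * 2 by norm_num]; exact mul_ne_zero h2 h2) (pow_ne_zero _ ha)) he0) hx0)
        (y := (2 * a * e * f) • y0) (by
          simp only [hx, herm_smul_left, herm_add_right, herm_smul_right, hy0u, hy0w]; ring) (by
          simp only [hw2, herm_smul_left, herm_sub_right, herm_smul_right, hy0u, hy0w]; ring) ?_
      rw [hw22, herm_smul_left, herm_smul_right, hs]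
      rcases hfpq with hf0 | hx'
      · rw [show 2 * (4 * a ^ 2 * e * Bd x x) - Bd x x = f * Bd x x by rw [hf]; ring, hf0]
        ring
      · rw [show 2 * (4 * a ^ 2 * e * Bd x x) - Bd x x = f * Bd x x by rw [hf]; ring]
        rw [← hxx] at hx'
        linear_combination (-4 * a ^ 2 * e * f * Bd x x) * hx'

include H h2 hn hnorm hodd in
theorem scalar_of_normalized [Fintype F]
    (hnormsurj : (∃ x, σ x ≠ x) → ∀ μ, σ μ = μ → ∃ x, x * σ x = μ)
    (hsim : ∀ g ∈ M, IsSim d σ g) {g : GL (Fin n) F} (hg : g ∈ M) :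
    ∃ c : F, (g : Matrix (Fin n) (Fin n) F) = c • 1 := by
  have line : ∀ u, Bd u u ≠ 0 → ∃ k : F, (g : Matrix (Fin n) (Fin n) F) *ᵥ u = k • u := by
    intro u hu
    obtain ⟨c, hc⟩ := hsim g hg
    have hu0 : u ≠ 0 := fun h0 => hu (by simp [h0, herm])
    set v := (g : Matrix (Fin n) (Fin n) F) *ᵥ u with hvdef
    have hv : Bd v v ≠ 0 := by rw [hvdef, hc]; exact mul_ne_zero (sim_ne_zero H hc hu0) hu
    have ht0 : refl hv * refl hu ∈ M := by
      have h1 := mul_mem hg (hnorm (refl hu) (refl_isom H hu) g⁻¹ (inv_mem hg))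
      rwa [refl_inv, show g * (refl hu * g⁻¹ * refl hu) = (g * refl hu * g⁻¹) * refl hu by group,
        conj_refl H (hsim g hg) hu hv rfl] at h1
    set t := refl hv * refl hu
    have ht : IsIsom d σ t := (refl_isom H hv).mul (refl_isom H hu)
    set v' := (t : Matrix (Fin n) (Fin n) F) *ᵥ u with hv'def
    have hv'e : v' = (2 * Bd u v / Bd v v) • v - u := by
      rw [hv'def, Units.val_mul, ← mulVec_mulVec, refl_self, mulVec_neg, refl_mulVec, neg_sub]
    by_cases hB : Bd v u = 0
    · exact (orth_not_mem H h2 hn hodd hu hv hB ht0).elim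
    have hk : 2 * Bd u v / Bd v v ≠ 0 :=
      div_ne_zero (mul_ne_zero h2 fun h => hB (herm_eq_zero_symm H h)) hv
    have hv'0 : Bd v' v' ≠ 0 := by rwa [hv'def, ht]
    have hM2 : refl hv'0 * refl hu ∈ M := by
      have h1 := mul_mem ht0 (hnorm (refl hu) (refl_isom H hu) t⁻¹ (inv_mem ht0))
      rwa [refl_inv, show t * (refl hu * t⁻¹ * refl hu) = (t * refl hu * t⁻¹) * refl hu by group,
        conj_refl H ht.isSim hu hv'0 rfl] at h1
    by_cases hw0 : v' - (Bd v' u / Bd u u) • u = 0
    · refine ⟨(Bd v' u / Bd u u + 1) / (2 * Bd u v / Bd v v), ?_⟩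
      rw [sub_eq_zero, hv'e, sub_eq_iff_eq_add] at hw0
      rw [div_eq_inv_mul, ← smul_smul, eq_inv_smul_iff₀ hk, add_smul, one_smul]
      refine hw0.trans ?_
      rw [← hv'e]
    · exact (pair_absurd H h2 hn hnorm hodd hnormsurj hu hv'0 hM2 (w := v' - (Bd v' u / Bd u u) • u)
        (by rw [add_sub_cancel]) (by rw [herm_sub_left, herm_smul_left, div_mul_cancel₀ _ hu, sub_self])
        (ht u u) hw0).elim
  have hbv : ∀ i, Bd (bv i) (bv i) = d i := fun i => by rw [herm_bv_right]; simp [AutPSL.bv]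
  choose k hk using fun i => line (bv i) (by rw [hbv]; exact H.ne0 i)
  have hoff : ∀ i l, i ≠ l → Bd (bv i) (bv l) = 0 := fun i l h => by
    rw [herm_bv_right]; simp [AutPSL.bv, h.symm]
  have hpair : ∀ i l, i ≠ l → k i = k l := by
    intro i l hil
    by_cases hdd : d i + d l = 0
    · obtain ⟨m, hmi, hml⟩ := AutPSL.exists_ne_ne hn i l
      obtain ⟨x, hx⟩ := line (bv i + bv l + bv m) (by
        simp only [herm_add_left, herm_add_right, hbv, hoff i l hil, hoff l i hil.symm, hoff m i hmi,
          hoff i m hmi.symm, hoff m l hml, hoff l m hml.symm]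
        intro h
        exact H.ne0 m (by linear_combination h - hdd))
      rw [mulVec_add, mulVec_add, hk, hk, hk] at hx
      have h1 := congrFun hx i
      have h3 := congrFun hx l
      simp [AutPSL.bv, hil, hil.symm, hmi.symm, hml.symm] at h1 h3
      rw [h1, h3]
    · obtain ⟨x, hx⟩ := line (bv i + bv l) (by
        simp only [herm_add_left, herm_add_right, hbv, hoff i l hil, hoff l i hil.symm]
        intro h
        exact hdd (by linear_combination h))
      rw [mulVec_add, hk, hk] at hx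
      have h1 := congrFun hx i
      have h3 := congrFun hx l
      simp [AutPSL.bv, hil, hil.symm] at h1 h3
      rw [h1, h3]
  set o : Fin n := ⟨0, by omega⟩
  refine ⟨k o, mat_eq_of_mulVec fun x => funext fun q => ?_⟩
  rw [smul_mulVec, one_mulVec, Pi.smul_apply, smul_eq_mul]
  have hcol : ∀ j, (g : Matrix (Fin n) (Fin n) F) q j = if q = j then k o else 0 := fun j => by
    have := congrFun (hk j) q
    simp only [AutPSL.bv, mulVec_single_one, Pi.smul_apply, smul_eq_mul, Pi.single_apply, mul_ite,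
      mul_one, mul_zero, Matrix.col_apply] at this
    rw [this]
    split_ifs with h
    · rcases eq_or_ne j o with e | e
      · rw [e]
      · exact hpair j o e
    · rfl
  simp [Matrix.mulVec, dotProduct, hcol]

end Main

end CfsgLib.Known.BalancePSL
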